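/-!
# Seven matrices of degree forty-five over the integers modulo seven
-/

set_option autoImplicit false
set_option linter.all false
set_option maxRecDepth 100000

namespace Cfsg.Agent.Lib.ON45.Data

def aRows : List (List Nat) := [
  [0,0,6,0,0,0,0,0,5,5,2,6,3,2,6,3,2,4,1,6,1,4,3,2,4,0,6,1,4,3,4,1,5,1,4,5,1,6,1,2,1,4,0,4,1],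
  [0,0,0,0,6,0,0,0,0,0,1,0,2,6,0,2,1,1,2,0,5,2,5,6,6,1,0,5,2,5,1,2,0,1,1,2,5,0,5,5,2,5,0,6,3],
  [6,0,0,0,0,0,0,0,2,2,5,1,4,5,1,4,5,3,6,1,6,3,4,5,3,0,1,6,3,4,3,6,2,6,3,2,6,1,6,5,6,3,0,3,6],
  [0,0,0,0,0,6,0,0,5,5,2,1,4,2,1,4,2,1,5,1,2,3,4,2,1,1,1,2,3,4,1,5,1,4,1,1,5,1,2,1,2,3,0,1,6],
  [0,6,0,0,0,0,0,0,0,0,6,0,5,1,0,5,6,6,5,0,2,5,2,1,1,6,0,2,5,2,6,5,0,6,6,5,2,0,2,2,5,2,0,1,4],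
  [0,0,0,6,0,0,0,0,2,2,5,6,3,5,6,3,5,6,2,6,5,4,3,5,6,6,6,5,4,3,6,2,6,3,6,6,2,6,5,6,5,4,0,6,1],
  [0,0,0,0,0,0,6,0,0,0,0,0,0,0,0,0,0,0,0,0,0,0,0,0,0,0,0,0,0,0,0,0,0,0,0,0,0,0,0,0,0,0,0,0,0],
  [0,0,0,0,0,0,0,6,0,0,0,0,0,0,0,0,0,0,0,0,0,0,0,0,0,0,0,0,0,0,0,0,0,0,0,0,0,0,0,0,0,0,0,0,0],
  [0,0,0,0,0,0,0,0,0,6,0,0,0,0,0,0,0,0,0,0,0,0,0,0,0,5,4,0,0,0,0,0,1,5,6,4,2,0,4,1,1,3,4,0,0],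
  [0,0,0,0,0,0,0,0,6,0,0,0,0,0,0,0,0,0,0,0,0,0,0,0,3,4,1,0,0,0,0,0,2,4,6,3,2,0,1,3,6,0,4,2,1],
  [0,0,0,0,0,0,0,0,0,0,0,0,0,0,0,0,6,0,0,0,0,0,0,0,0,2,6,0,0,0,0,0,1,6,1,4,3,0,3,6,0,2,5,4,6],
  [0,0,0,0,0,0,0,0,0,0,0,0,0,0,6,0,0,0,0,0,0,0,0,0,0,5,4,0,0,0,0,0,5,3,6,0,6,0,3,1,6,4,6,6,1],
  [0,0,0,0,0,0,0,0,0,0,0,0,0,0,0,6,0,0,0,0,0,0,0,0,0,0,5,0,0,0,0,0,4,2,1,6,6,0,4,0,6,6,2,0,1],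
  [0,0,0,0,0,0,0,0,0,0,0,0,0,0,0,0,0,0,0,0,0,0,0,6,1,3,5,0,0,0,0,0,5,2,2,4,2,0,4,2,0,1,4,4,3],
  [0,0,0,0,0,0,0,0,0,0,0,6,0,0,0,0,0,0,0,0,0,0,0,0,1,5,0,0,0,0,0,0,5,4,5,2,6,0,0,0,1,6,3,3,5],
  [0,0,0,0,0,0,0,0,0,0,0,0,6,0,0,0,0,0,0,0,0,0,0,0,3,0,0,0,0,0,0,0,6,0,2,2,1,0,2,2,1,5,0,3,3],
  [0,0,0,0,0,0,0,0,0,0,6,0,0,0,0,0,0,0,0,0,0,0,0,0,6,6,2,0,0,0,0,0,5,1,2,4,2,0,3,2,0,1,2,4,1],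
  [0,0,0,0,0,0,0,0,0,0,0,0,0,0,0,0,0,0,0,0,0,0,0,0,4,2,5,0,0,0,6,0,1,1,3,0,4,0,0,4,0,3,6,0,2],
  [0,0,0,0,0,0,0,0,0,0,0,0,0,0,0,0,0,0,0,0,0,0,0,0,5,5,0,0,0,0,0,6,3,0,4,3,4,0,2,6,0,4,6,0,0],
  [0,0,0,0,0,0,0,0,0,0,0,0,0,0,0,0,0,0,0,0,0,0,0,0,0,1,4,0,0,0,0,0,3,4,4,3,3,6,4,0,0,4,4,0,6],
  [0,0,0,0,0,0,0,0,0,0,0,0,0,0,0,0,0,0,0,0,0,0,0,0,3,0,2,6,0,0,0,0,5,5,3,4,1,0,2,3,1,6,4,4,3],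
  [0,0,0,0,0,0,0,0,0,0,0,0,0,0,0,0,0,0,0,0,0,0,0,0,6,5,5,0,6,0,0,0,0,2,0,2,3,0,1,5,0,5,4,3,1],
  [0,0,0,0,0,0,0,0,0,0,0,0,0,0,0,0,0,0,0,0,0,0,0,0,0,5,3,0,0,6,0,0,4,4,1,6,5,0,0,6,1,1,3,6,0],
  [0,0,0,0,0,0,0,0,0,0,0,0,0,6,0,0,0,0,0,0,0,0,0,0,5,0,2,0,0,0,0,0,0,6,3,3,2,0,3,6,0,3,3,5,0],
  [0,0,0,0,0,0,0,0,0,0,0,0,0,0,0,0,0,0,0,0,0,0,0,0,6,2,4,0,0,0,0,0,4,4,3,1,2,0,1,4,0,0,1,5,3],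
  [0,0,0,0,0,0,0,0,0,0,0,0,0,0,0,0,0,0,0,0,0,0,0,0,6,0,6,0,0,0,0,0,3,1,6,2,4,0,2,2,0,3,3,3,1],
  [0,0,0,0,0,0,0,0,0,0,0,0,0,0,0,0,0,0,0,0,0,0,0,0,1,2,0,0,0,0,0,0,0,3,3,6,2,0,6,1,0,6,2,5,4],
  [0,0,0,0,0,0,0,0,0,0,0,0,0,0,0,0,0,0,0,0,6,0,0,0,0,0,0,0,0,0,0,0,3,0,4,1,0,0,4,0,6,0,3,4,6],
  [0,0,0,0,0,0,0,0,0,0,0,0,0,0,0,0,0,0,0,0,0,6,0,0,1,5,4,0,0,0,0,0,2,1,0,3,5,0,2,1,0,2,3,5,5],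
  [0,0,0,0,0,0,0,0,0,0,0,0,0,0,0,0,0,0,0,0,0,0,6,0,0,6,1,0,0,0,0,0,1,2,1,2,2,0,1,4,6,3,0,3,6],
  [0,0,0,0,0,0,0,0,0,0,0,0,0,0,0,0,0,6,0,0,0,0,0,0,2,6,5,0,0,0,0,0,4,4,1,3,2,0,3,2,0,0,5,3,1],
  [0,0,0,0,0,0,0,0,0,0,0,0,0,0,0,0,0,0,6,0,0,0,0,0,0,1,0,0,0,0,0,0,0,0,4,0,6,0,6,1,0,0,3,4,6],
  [0,0,0,0,0,0,0,0,0,0,0,0,0,0,0,0,0,0,0,0,0,0,0,0,1,1,1,0,0,0,0,0,5,6,6,5,3,0,5,5,0,4,4,2,6],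
  [0,0,0,0,0,0,0,0,0,0,0,0,0,0,0,0,0,0,0,0,0,0,0,0,0,0,0,0,0,0,0,0,0,6,0,0,0,0,0,0,0,0,0,0,1],
  [0,0,0,0,0,0,0,0,0,0,0,0,0,0,0,0,0,0,0,0,0,0,0,0,0,0,0,0,0,0,0,0,0,0,6,0,0,0,0,0,0,0,0,0,1],
  [0,0,0,0,0,0,0,0,0,0,0,0,0,0,0,0,0,0,0,0,0,0,0,0,2,1,4,0,0,0,0,0,5,2,1,3,1,0,2,6,0,6,5,2,2],
  [0,0,0,0,0,0,0,0,0,0,0,0,0,0,0,0,0,0,0,0,0,0,0,0,2,6,1,0,0,0,0,0,6,5,6,0,4,0,0,0,0,2,6,4,3],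
  [0,0,0,0,0,0,0,0,0,0,0,0,0,0,0,0,0,0,0,6,0,0,0,0,1,3,3,0,0,0,0,0,3,0,1,2,5,0,3,1,0,3,5,6,0],
  [0,0,0,0,0,0,0,0,0,0,0,0,0,0,0,0,0,0,0,0,0,0,0,0,1,2,6,0,0,0,0,0,0,1,5,6,1,0,0,2,0,6,1,6,2],
  [0,0,0,0,0,0,0,0,0,0,0,0,0,0,0,0,0,0,0,0,0,0,0,0,2,6,1,0,0,0,0,0,6,5,6,0,5,0,0,6,0,2,6,4,2],
  [0,0,0,0,0,0,0,0,0,0,0,0,0,0,0,0,0,0,0,0,0,0,0,0,6,5,1,0,0,0,0,0,1,5,4,3,6,0,1,5,6,1,0,3,6],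
  [0,0,0,0,0,0,0,0,0,0,0,0,0,0,0,0,0,0,0,0,0,0,0,0,0,3,1,0,0,0,0,0,2,1,3,3,0,0,3,6,0,0,3,3,2],
  [0,0,0,0,0,0,0,0,0,0,0,0,0,0,0,0,0,0,0,0,0,0,0,0,0,0,0,0,0,0,0,0,0,0,0,0,0,0,0,0,0,0,6,0,1],
  [0,0,0,0,0,0,0,0,0,0,0,0,0,0,0,0,0,0,0,0,0,0,0,0,0,0,0,0,0,0,0,0,0,0,0,0,0,0,0,0,0,0,0,6,6],
  [0,0,0,0,0,0,0,0,0,0,0,0,0,0,0,0,0,0,0,0,0,0,0,0,0,0,0,0,0,0,0,0,0,0,0,0,0,0,0,0,0,0,0,0,1]]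

def bRows : List (List Nat) := [
  [4,2,1,3,4,3,5,1,5,2,5,6,2,0,1,4,0,1,4,1,0,0,5,2,2,6,6,0,2,3,5,6,1,4,0,5,5,6,0,5,1,0,0,2,4],
  [5,6,4,5,3,4,0,1,5,5,4,1,1,6,6,3,5,6,5,6,0,1,1,3,0,0,1,0,3,3,4,6,4,6,0,5,4,1,0,0,6,1,2,0,2],
  [1,3,4,3,5,3,2,6,5,2,0,6,2,2,1,4,5,5,2,1,6,0,5,0,6,2,6,1,2,3,1,1,5,1,5,5,3,6,1,1,0,0,3,0,3],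
  [3,2,3,4,4,1,2,3,5,2,5,6,0,0,1,2,0,4,5,1,5,2,0,2,6,3,6,2,4,5,6,0,3,1,1,4,2,6,2,0,6,5,4,5,2],
  [3,3,2,3,6,2,0,1,5,5,6,6,1,4,1,3,3,0,4,1,6,1,1,5,6,4,6,1,3,3,3,0,6,0,0,4,5,6,1,6,0,1,4,0,6],
  [3,3,3,1,5,4,5,4,5,2,0,6,0,2,1,2,5,1,5,1,1,2,0,0,3,2,6,6,4,5,2,0,4,5,2,2,2,6,6,6,2,5,1,6,3],
  [4,2,3,2,2,5,4,5,6,6,5,0,2,5,0,6,3,5,0,0,6,6,2,3,5,2,0,1,5,6,1,1,2,6,0,2,0,0,1,2,6,6,2,0,4],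
  [1,3,6,1,3,6,0,1,2,2,4,0,6,4,0,3,1,3,5,0,6,6,6,1,3,0,0,1,3,3,0,6,6,3,0,5,5,0,1,6,6,6,5,0,2],
  [0,0,0,0,0,0,0,0,0,0,6,0,0,0,0,0,0,0,0,0,0,0,0,0,4,0,0,3,6,1,0,5,0,0,0,0,0,4,0,1,1,0,0,4,0],
  [0,0,0,0,0,0,0,0,0,0,0,0,0,6,0,0,0,0,0,0,0,0,0,0,1,0,0,0,1,5,4,4,0,1,1,0,0,1,0,2,4,5,0,6,0],
  [0,0,0,0,0,0,0,0,6,0,0,0,0,0,0,0,0,0,0,0,0,0,0,0,6,0,0,3,1,4,0,2,0,2,3,0,0,6,0,5,2,3,0,3,0],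
  [0,0,0,0,0,0,0,0,0,0,0,0,0,0,0,0,0,0,0,6,0,0,0,0,3,0,0,6,1,6,0,5,0,6,5,0,0,4,0,0,3,2,0,6,0],
  [0,0,0,0,0,0,0,0,0,0,0,0,0,0,0,0,0,0,6,0,0,0,0,0,6,0,0,2,2,6,0,0,0,6,1,0,0,5,0,3,6,1,0,4,0],
  [0,0,0,0,0,0,0,0,0,6,0,0,0,0,0,0,0,0,0,0,0,0,0,0,6,0,0,6,6,4,6,3,0,5,5,0,0,5,0,1,4,4,0,2,0],
  [0,0,0,0,0,0,0,0,0,0,0,0,0,0,0,0,0,0,0,0,0,0,0,0,2,0,6,2,0,2,6,5,0,1,2,0,0,0,0,1,3,5,0,5,0],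
  [0,0,0,0,0,0,0,0,0,0,0,0,0,0,0,0,0,0,0,0,0,0,0,0,1,6,0,3,1,0,4,0,0,6,2,0,0,0,0,1,2,3,0,3,0],
  [0,0,0,0,0,0,0,0,0,0,0,0,0,0,0,0,0,0,0,0,0,0,0,6,6,0,0,1,2,5,2,6,0,3,0,0,0,2,0,2,4,6,0,6,0],
  [0,0,0,0,0,0,0,0,0,0,0,0,0,0,0,0,0,0,0,0,0,0,0,0,6,0,0,4,6,6,3,2,6,5,5,0,0,5,0,5,5,5,0,0,0],
  [0,0,0,0,0,0,0,0,0,0,0,0,6,0,0,0,0,0,0,0,0,0,0,0,4,0,0,4,4,6,2,5,0,4,0,0,0,0,0,4,4,5,0,6,0],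
  [0,0,0,0,0,0,0,0,0,0,0,6,0,0,0,0,0,0,0,0,0,0,0,0,4,0,0,1,0,6,0,1,0,2,5,0,0,4,0,6,3,3,0,2,0],
  [0,0,0,0,0,0,0,0,0,0,0,0,0,0,0,0,0,0,0,0,0,0,0,0,2,0,0,2,6,1,4,0,0,4,5,0,0,2,6,5,3,2,0,3,0],
  [0,0,0,0,0,0,0,0,0,0,0,0,0,0,0,0,0,0,0,0,0,0,0,0,0,0,0,5,2,4,1,5,0,3,1,6,0,5,0,0,2,5,0,5,0],
  [0,0,0,0,0,0,0,0,0,0,0,0,0,0,0,0,0,0,0,0,0,0,0,0,3,0,0,2,1,1,0,5,0,0,5,0,6,3,0,1,6,3,0,4,0],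
  [0,0,0,0,0,0,0,0,0,0,0,0,0,0,0,0,6,0,0,0,0,0,0,0,0,0,0,0,4,3,2,0,0,4,5,0,0,2,0,4,1,4,0,1,0],
  [0,0,0,0,0,0,0,0,0,0,0,0,0,0,0,0,0,0,0,0,0,0,0,0,0,0,0,4,5,0,1,2,0,2,6,0,0,4,0,4,6,2,0,0,0],
  [0,0,0,0,0,0,0,0,0,0,0,0,0,0,0,6,0,0,0,0,0,0,0,0,4,0,0,5,0,2,1,0,0,0,3,0,0,6,0,0,1,0,0,1,0],
  [0,0,0,0,0,0,0,0,0,0,0,0,0,0,6,0,0,0,0,0,0,0,0,0,1,0,0,0,1,2,6,2,0,5,1,0,0,0,0,2,3,4,0,1,0],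
  [0,0,0,0,0,0,0,0,0,0,0,0,0,0,0,0,0,0,0,0,0,0,0,0,0,0,0,1,0,0,0,0,0,0,2,0,0,0,0,0,0,0,0,2,0],
  [0,0,0,0,0,0,0,0,0,0,0,0,0,0,0,0,0,0,0,0,0,0,0,0,5,0,0,3,0,1,6,5,0,0,0,0,0,4,0,1,6,0,0,4,0],
  [0,0,0,0,0,0,0,0,0,0,0,0,0,0,0,0,0,0,0,0,0,0,0,0,2,0,0,0,2,0,0,6,0,2,3,0,0,1,0,3,2,4,0,2,0],
  [0,0,0,0,0,0,0,0,0,0,0,0,0,0,0,0,0,0,0,0,0,0,0,0,0,0,0,5,0,4,5,6,0,5,4,0,0,5,0,6,2,4,0,1,0],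
  [0,0,0,0,0,0,0,0,0,0,0,0,0,0,0,0,0,0,0,0,0,0,0,0,0,0,0,0,0,0,0,1,0,0,2,0,0,0,0,0,0,0,0,2,0],
  [0,0,0,0,0,0,0,0,0,0,0,0,0,0,0,0,0,6,0,0,0,0,0,0,2,0,0,2,6,4,6,1,0,6,4,0,0,1,0,0,6,0,0,6,0],
  [0,0,0,0,0,0,0,0,0,0,0,0,0,0,0,0,0,0,0,0,0,0,0,0,0,0,0,0,0,0,0,0,0,6,0,0,0,0,0,0,0,0,0,0,0],
  [0,0,0,0,0,0,0,0,0,0,0,0,0,0,0,0,0,0,0,0,0,0,0,0,0,0,0,0,0,0,0,0,0,0,6,0,0,0,0,0,0,0,0,0,0],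
  [0,0,0,0,0,0,0,0,0,0,0,0,0,0,0,0,0,0,0,0,0,6,0,0,2,0,0,5,4,2,1,1,0,0,0,0,0,4,0,1,6,4,0,0,0],
  [0,0,0,0,0,0,0,0,0,0,0,0,0,0,0,0,0,0,0,0,0,0,6,0,1,0,0,5,4,5,5,6,0,4,5,0,0,1,0,5,0,1,0,4,0],
  [0,0,0,0,0,0,0,0,0,0,0,0,0,0,0,0,0,0,0,0,0,0,0,0,5,0,0,1,1,1,6,3,0,0,3,0,0,3,0,1,6,0,0,0,0],
  [0,0,0,0,0,0,0,0,0,0,0,0,0,0,0,0,0,0,0,0,6,0,0,0,0,0,0,2,3,3,6,2,0,6,1,0,0,6,0,3,4,2,0,0,0],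
  [0,0,0,0,0,0,0,0,0,0,0,0,0,0,0,0,0,0,0,0,0,0,0,0,1,0,0,5,4,4,5,6,0,3,5,0,0,1,0,2,1,1,0,4,0],
  [0,0,0,0,0,0,0,0,0,0,0,0,0,0,0,0,0,0,0,0,0,0,0,0,2,0,0,6,6,4,1,5,0,3,6,0,0,1,0,2,6,4,0,3,0],
  [0,0,0,0,0,0,0,0,0,0,0,0,0,0,0,0,0,0,0,0,0,0,0,0,5,0,0,0,0,5,3,3,0,1,3,0,0,1,0,0,1,5,0,5,0],
  [0,0,0,0,0,0,0,0,0,0,0,0,0,0,0,0,0,0,0,0,0,0,0,0,0,0,0,0,0,0,0,0,0,0,0,0,0,0,0,0,0,0,0,0,6],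
  [0,0,0,0,0,0,0,0,0,0,0,0,0,0,0,0,0,0,0,0,0,0,0,0,0,0,0,0,0,0,0,0,0,0,0,0,0,0,0,0,0,0,0,6,0],
  [0,0,0,0,0,0,0,0,0,0,0,0,0,0,0,0,0,0,0,0,0,0,0,0,0,0,0,0,0,0,0,0,0,0,0,0,0,0,0,0,0,0,6,0,0]]

def cRows : List (List Nat) := [
  [0,0,2,2,0,0,0,0,3,3,0,1,1,0,1,2,4,0,0,1,3,5,1,4,0,0,1,2,5,2,3,5,0,5,0,4,0,1,4,1,3,5,1,0,3],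
  [0,3,0,0,4,0,6,3,6,1,0,1,1,0,6,2,0,0,0,4,6,5,6,0,0,0,3,5,2,5,0,6,3,6,0,2,0,3,1,3,1,2,1,0,0],
  [2,0,0,0,0,2,0,0,4,4,0,6,6,0,6,5,3,0,0,6,4,2,6,3,0,0,6,5,2,5,4,2,0,2,0,3,0,6,3,6,4,2,6,0,4],
  [2,0,0,0,0,5,0,0,0,0,0,6,6,0,6,3,2,0,0,1,0,0,6,2,0,0,1,3,1,3,5,6,4,2,0,3,0,0,6,0,0,0,0,0,0],
  [0,4,0,0,3,0,6,3,1,6,0,6,6,0,1,5,0,0,0,3,1,2,1,0,0,0,4,2,5,2,0,1,4,1,0,5,0,4,6,4,6,5,6,0,0],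
  [0,0,2,5,0,0,0,0,0,0,0,1,1,0,1,4,5,0,0,6,0,0,1,5,0,0,6,4,6,4,2,1,3,5,0,4,0,0,1,0,0,0,0,0,0],
  [0,3,0,0,3,0,0,4,0,0,0,0,0,0,0,0,0,0,0,0,0,0,0,0,0,0,0,0,0,0,0,0,0,0,0,0,0,0,0,0,0,0,0,0,0],
  [0,0,0,0,0,0,0,6,0,0,0,0,0,0,0,0,0,0,0,0,0,0,0,0,0,0,0,0,0,0,0,0,0,0,0,0,0,0,0,0,0,0,0,0,0],
  [0,0,0,0,0,0,0,0,0,0,0,6,0,0,0,0,0,0,0,0,0,0,0,0,0,1,4,0,4,1,0,6,0,0,0,0,0,1,0,3,0,0,0,0,5],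
  [0,0,0,0,0,0,0,0,0,0,0,0,0,0,6,0,0,0,0,0,0,0,0,3,0,2,1,0,3,6,0,6,0,0,0,0,0,2,1,1,0,5,0,0,5],
  [0,0,0,0,0,0,0,0,0,0,0,0,0,0,0,0,0,6,0,0,0,0,0,0,0,0,6,0,4,0,0,1,0,0,0,0,0,1,3,2,0,3,0,0,3],
  [0,0,0,0,0,0,0,0,6,0,0,0,0,0,0,0,0,0,0,0,0,0,0,0,0,6,3,0,0,6,0,6,0,0,0,0,0,5,5,0,0,2,0,0,5],
  [0,0,0,0,0,0,0,0,0,0,0,0,0,0,0,0,0,0,0,0,6,0,0,0,0,6,6,0,6,6,0,1,0,0,0,0,0,4,1,3,0,1,0,0,4],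
  [0,0,0,0,0,0,0,0,0,0,0,0,0,0,0,0,0,0,0,0,0,0,0,1,6,5,6,0,4,0,0,2,0,0,0,0,0,5,5,0,0,4,0,0,5],
  [0,0,0,0,0,0,0,0,0,6,0,0,0,0,0,0,0,0,0,0,0,0,0,1,0,3,2,0,2,1,0,5,0,0,0,0,0,5,2,2,0,5,0,0,0],
  [0,0,0,0,0,0,0,0,0,0,0,0,0,0,0,0,0,0,0,0,0,0,0,3,0,4,1,6,2,1,0,2,0,0,0,0,0,6,2,3,0,3,0,0,2],
  [0,0,0,0,0,0,0,0,0,0,0,0,0,0,0,0,0,0,0,0,0,0,0,6,0,0,6,0,4,0,6,2,0,0,0,0,0,5,0,3,0,6,0,0,2],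
  [0,0,0,0,0,0,0,0,0,0,6,0,0,0,0,0,0,0,0,0,0,0,0,4,0,0,6,0,0,0,0,3,0,0,0,0,0,1,5,5,0,5,0,0,6],
  [0,0,0,0,0,0,0,0,0,0,0,0,0,0,0,0,0,0,0,0,0,0,0,5,0,4,4,0,3,0,0,4,0,0,6,0,0,3,0,2,0,5,0,0,4],
  [0,0,0,0,0,0,0,0,0,0,0,0,0,0,0,0,0,0,0,0,0,0,0,0,0,2,4,0,3,0,0,4,6,0,0,0,0,3,5,1,0,3,0,0,5],
  [0,0,0,0,0,0,0,0,0,0,0,0,6,0,0,0,0,0,0,0,0,0,0,3,0,1,2,0,4,1,0,3,0,0,0,0,0,5,5,6,0,2,0,0,2],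
  [0,0,0,0,0,0,0,0,0,0,0,0,0,0,0,0,0,0,0,0,0,0,0,6,0,0,0,0,2,0,0,0,0,0,0,6,0,0,1,2,0,5,0,0,1],
  [0,0,0,0,0,0,0,0,0,0,0,0,0,0,0,0,0,0,0,0,0,0,0,0,0,1,3,0,6,1,0,1,0,0,0,0,0,4,5,5,6,3,0,0,5],
  [0,0,0,0,0,0,0,0,0,0,0,0,0,0,0,0,0,0,0,0,0,0,0,5,0,2,0,0,3,0,0,3,0,0,0,0,0,0,5,6,0,4,0,0,1],
  [0,0,0,0,0,0,0,0,0,0,0,0,0,6,0,0,0,0,0,0,0,0,0,6,0,5,0,0,1,0,0,3,0,0,0,0,0,4,6,0,0,2,0,0,2],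
  [0,0,0,0,0,0,0,0,0,0,0,0,0,0,0,0,0,0,0,0,0,0,0,6,0,6,4,0,2,0,0,6,0,0,0,0,0,3,3,3,0,0,0,0,0],
  [0,0,0,0,0,0,0,0,0,0,0,0,0,0,0,0,0,0,0,0,0,0,0,1,0,2,1,0,6,0,0,3,0,0,0,0,0,0,1,5,0,4,0,0,5],
  [0,0,0,0,0,0,0,0,0,0,0,0,0,0,0,6,0,0,0,0,0,0,0,0,0,2,0,0,1,6,0,4,0,0,0,0,0,3,2,3,0,0,0,0,5],
  [0,0,0,0,0,0,0,0,0,0,0,0,0,0,0,0,0,0,0,0,0,0,0,1,0,2,5,0,3,0,0,0,0,0,0,0,0,2,0,4,0,0,0,0,4],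
  [0,0,0,0,0,0,0,0,0,0,0,0,0,0,0,0,0,0,0,0,0,0,0,0,0,4,2,0,2,6,0,1,0,0,0,0,0,1,3,5,0,4,0,0,6],
  [0,0,0,0,0,0,0,0,0,0,0,0,0,0,0,0,6,0,0,0,0,0,0,2,0,4,0,0,3,0,0,1,0,0,0,0,0,4,4,5,0,4,0,0,3],
  [0,0,0,0,0,0,0,0,0,0,0,0,0,0,0,0,0,0,0,0,0,0,0,0,0,1,0,0,0,0,0,4,0,0,0,0,0,0,2,3,0,0,0,0,6],
  [0,0,0,0,0,0,0,0,0,0,0,0,0,0,0,0,0,0,0,6,0,0,0,1,0,1,2,0,5,0,0,6,0,0,0,0,0,5,4,4,0,0,0,0,0],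
  [0,0,0,0,0,0,0,0,0,0,0,0,0,0,0,0,0,0,0,0,0,0,0,0,0,0,0,0,0,0,0,0,0,0,0,0,0,0,0,0,0,0,6,0,0],
  [0,0,0,0,0,0,0,0,0,0,0,0,0,0,0,0,0,0,6,0,0,0,0,0,0,1,0,0,0,0,0,6,0,0,0,0,0,0,6,0,0,0,0,0,3],
  [0,0,0,0,0,0,0,0,0,0,0,0,0,0,0,0,0,0,0,0,0,6,0,2,0,1,2,0,3,0,0,1,0,0,0,0,0,5,0,4,0,4,0,0,6],
  [0,0,0,0,0,0,0,0,0,0,0,0,0,0,0,0,0,0,0,0,0,0,0,2,0,3,1,0,0,0,0,6,0,0,0,0,0,6,5,1,0,1,0,6,4],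
  [0,0,0,0,0,0,0,0,0,0,0,0,0,0,0,0,0,0,0,0,0,0,0,1,0,0,5,0,2,0,0,1,0,0,0,0,0,3,3,5,0,0,0,0,1],
  [0,0,0,0,0,0,0,0,0,0,0,0,0,0,0,0,0,0,0,0,0,0,0,1,0,1,0,0,6,0,0,5,0,0,0,0,0,0,1,5,0,2,0,0,1],
  [0,0,0,0,0,0,0,0,0,0,0,0,0,0,0,0,0,0,0,0,0,0,0,2,0,3,1,0,0,0,0,6,0,0,0,0,0,6,5,1,0,1,0,0,5],
  [0,0,0,0,0,0,0,0,0,0,0,0,0,0,0,0,0,0,0,0,0,0,6,6,0,5,2,0,3,6,0,4,0,0,0,0,0,1,6,6,0,4,0,0,2],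
  [0,0,0,0,0,0,0,0,0,0,0,0,0,0,0,0,0,0,0,0,0,0,0,0,0,4,5,0,3,0,0,3,0,0,0,0,0,2,3,6,0,5,0,0,2],
  [0,0,0,0,0,0,0,0,0,0,0,0,0,0,0,0,0,0,0,0,0,0,0,0,0,0,0,0,0,0,0,0,0,6,0,0,0,0,0,0,0,0,0,0,0],
  [0,0,0,0,0,0,0,0,0,0,0,0,0,0,0,0,0,0,0,0,0,0,0,0,0,0,0,0,0,0,0,0,0,0,0,0,6,0,0,1,0,0,0,0,1],
  [0,0,0,0,0,0,0,0,0,0,0,0,0,0,0,0,0,0,0,0,0,0,0,0,0,0,0,0,0,0,0,0,0,0,0,0,0,0,0,0,0,0,0,0,6]]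

def dRows : List (List Nat) := [
  [0,0,0,6,0,0,0,0,0,0,0,0,0,0,0,0,0,0,0,0,0,0,0,0,0,0,0,0,0,0,0,0,0,0,0,0,0,0,0,0,0,0,0,0,0],
  [0,6,0,0,0,0,0,0,0,0,0,0,0,0,0,0,0,0,0,0,0,0,0,0,0,0,0,0,0,0,0,0,0,0,0,0,0,0,0,0,0,0,0,0,0],
  [0,0,0,0,0,6,0,0,0,0,0,0,0,0,0,0,0,0,0,0,0,0,0,0,0,0,0,0,0,0,0,0,0,0,0,0,0,0,0,0,0,0,0,0,0],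
  [6,0,0,0,0,0,0,0,0,0,0,0,0,0,0,0,0,0,0,0,0,0,0,0,0,0,0,0,0,0,0,0,0,0,0,0,0,0,0,0,0,0,0,0,0],
  [0,0,0,0,6,0,0,0,0,0,0,0,0,0,0,0,0,0,0,0,0,0,0,0,0,0,0,0,0,0,0,0,0,0,0,0,0,0,0,0,0,0,0,0,0],
  [0,0,6,0,0,0,0,0,0,0,0,0,0,0,0,0,0,0,0,0,0,0,0,0,0,0,0,0,0,0,0,0,0,0,0,0,0,0,0,0,0,0,0,0,0],
  [0,0,0,0,0,0,1,1,0,0,0,0,0,0,0,0,0,0,0,0,0,0,0,0,0,0,0,0,0,0,0,0,0,0,0,0,0,0,0,0,0,0,0,0,0],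
  [0,0,0,0,0,0,0,6,0,0,0,0,0,0,0,0,0,0,0,0,0,0,0,0,0,0,0,0,0,0,0,0,0,0,0,0,0,0,0,0,0,0,0,0,0],
  [0,0,0,0,0,0,0,0,6,0,0,0,0,0,0,0,0,0,0,0,0,0,0,0,5,6,0,1,0,3,5,4,0,0,5,0,0,3,1,0,3,0,6,4,0],
  [0,0,0,0,0,0,0,0,0,6,0,0,0,0,0,0,0,0,0,0,0,0,0,0,0,1,0,3,0,0,4,3,1,0,0,0,5,6,2,0,2,0,4,2,3],
  [0,0,0,0,0,0,0,0,0,0,6,0,0,0,0,0,0,0,0,0,0,0,0,0,3,1,0,6,0,2,6,4,2,0,5,0,3,1,5,0,2,0,3,5,2],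
  [0,0,0,0,0,0,0,0,0,0,0,0,0,0,1,0,0,0,0,0,0,0,0,0,4,1,0,1,0,4,3,0,6,0,5,0,2,3,0,0,5,0,3,6,2],
  [0,0,0,0,0,0,0,0,0,0,0,0,0,0,0,0,0,0,0,0,0,6,0,0,2,2,0,0,0,6,2,6,6,0,5,0,1,2,3,0,1,0,6,1,2],
  [0,0,0,0,0,0,0,0,0,0,0,0,0,6,0,0,0,0,0,0,0,0,0,0,1,6,0,2,0,1,2,4,5,0,3,0,4,2,1,0,3,0,1,0,4],
  [0,0,0,0,0,0,0,0,0,0,0,1,0,0,0,0,0,0,0,0,0,0,0,0,0,0,0,0,0,6,4,2,1,0,1,0,5,0,1,0,0,0,1,4,3],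
  [0,0,0,0,0,0,0,0,0,0,0,0,0,0,0,0,0,0,0,0,0,0,0,0,4,1,0,2,6,5,0,2,6,0,6,0,3,0,1,0,4,0,3,3,3],
  [0,0,0,0,0,0,0,0,0,0,0,0,0,0,0,0,6,0,0,0,0,0,0,0,0,2,0,2,0,1,1,4,3,0,4,0,6,5,2,0,4,0,4,0,3],
  [0,0,0,0,0,0,0,0,0,0,0,0,0,0,0,0,0,0,0,0,0,0,0,0,6,6,0,4,0,3,1,0,5,6,6,0,5,2,5,0,5,0,3,0,4],
  [0,0,0,0,0,0,0,0,0,0,0,0,0,0,0,0,0,0,0,0,0,0,0,0,1,4,0,6,0,4,0,3,4,0,6,6,5,0,4,0,2,0,6,4,0],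
  [0,0,0,0,0,0,0,0,0,0,0,0,0,0,0,0,0,0,0,0,0,0,0,0,6,0,1,0,0,4,4,3,2,0,3,0,3,3,6,0,0,0,3,2,1],
  [0,0,0,0,0,0,0,0,0,0,0,0,0,0,0,0,0,0,0,0,0,0,0,0,6,6,0,3,0,6,5,4,4,0,4,0,2,5,5,6,6,0,0,2,1],
  [0,0,0,0,0,0,0,0,0,0,0,0,6,0,0,0,0,0,0,0,0,0,0,0,0,2,0,5,0,5,2,2,3,0,1,0,5,2,0,0,6,0,1,1,2],
  [0,0,0,0,0,0,0,0,0,0,0,0,0,0,0,0,0,0,0,0,0,0,0,0,1,1,0,6,0,1,4,6,0,0,3,0,3,4,1,0,5,6,1,4,3],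
  [0,0,0,0,0,0,0,0,0,0,0,0,0,0,0,0,0,0,0,0,0,0,0,6,0,4,0,6,0,3,6,3,4,0,5,0,4,5,4,0,3,0,5,2,4],
  [0,0,0,0,0,0,0,0,0,0,0,0,0,0,0,0,0,0,0,0,0,0,0,0,2,5,0,4,0,0,4,1,2,0,6,0,2,3,4,0,3,0,3,1,6],
  [0,0,0,0,0,0,0,0,0,0,0,0,0,0,0,0,0,0,0,0,0,0,0,0,2,0,0,2,0,3,1,2,0,0,6,0,0,1,0,0,2,0,2,4,6],
  [0,0,0,0,0,0,0,0,0,0,0,0,0,0,0,0,0,0,0,1,0,0,0,0,5,1,0,1,0,6,3,6,5,0,3,0,4,0,2,0,5,0,1,1,4],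
  [0,0,0,0,0,0,0,0,0,0,0,0,0,0,0,0,0,0,0,0,0,0,0,0,0,0,0,0,0,0,0,1,0,0,0,0,0,0,0,0,0,0,0,0,0],
  [0,0,0,0,0,0,0,0,0,0,0,0,0,0,0,6,0,0,0,0,0,0,0,0,2,0,0,1,0,2,1,3,0,0,1,0,0,3,1,0,5,0,5,5,6],
  [0,0,0,0,0,0,0,0,0,0,0,0,0,0,0,0,0,0,0,0,0,0,0,0,5,2,0,4,0,3,2,2,2,0,4,0,4,6,3,0,4,0,2,0,2],
  [0,0,0,0,0,0,0,0,0,0,0,0,0,0,0,0,0,0,0,0,0,0,0,0,5,0,0,2,0,0,4,3,5,0,4,0,4,2,6,0,0,0,2,3,6],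
  [0,0,0,0,0,0,0,0,0,0,0,0,0,0,0,0,0,0,0,0,0,0,0,0,0,0,0,1,0,0,0,0,0,0,0,0,0,0,0,0,0,0,0,0,0],
  [0,0,0,0,0,0,0,0,0,0,0,0,0,0,0,0,0,0,0,0,0,0,0,0,5,6,0,5,0,4,6,5,6,0,3,0,0,6,0,0,5,0,5,5,3],
  [0,0,0,0,0,0,0,0,0,0,0,0,0,0,0,0,0,6,0,0,0,0,0,0,1,0,0,0,0,0,6,0,6,0,0,0,0,0,0,0,0,0,0,0,0],
  [0,0,0,0,0,0,0,0,0,0,0,0,0,0,0,0,0,0,0,0,0,0,0,0,0,0,0,0,0,0,0,0,0,0,1,0,0,0,0,0,0,0,0,0,0],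
  [0,0,0,0,0,0,0,0,0,0,0,0,0,0,0,0,0,0,6,0,0,0,0,0,1,4,0,6,0,6,2,3,0,0,3,0,4,3,1,0,0,0,5,2,5],
  [0,0,0,0,0,0,0,0,0,0,0,0,0,0,0,0,0,0,0,0,0,0,0,0,2,4,0,0,0,2,5,0,4,0,0,0,1,6,5,0,0,0,2,3,2],
  [0,0,0,0,0,0,0,0,0,0,0,0,0,0,0,0,0,0,0,0,0,0,0,0,4,1,0,1,0,3,0,2,0,0,6,0,0,4,1,0,5,0,4,3,5],
  [0,0,0,0,0,0,0,0,0,0,0,0,0,0,0,0,0,0,0,0,0,0,0,0,1,3,0,2,0,6,1,6,6,0,0,0,2,1,3,0,1,0,3,0,2],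
  [0,0,0,0,0,0,0,0,0,0,0,0,0,0,0,0,0,0,0,0,6,0,0,0,2,4,0,6,0,2,5,0,3,0,0,0,1,6,2,0,0,0,2,3,5],
  [0,0,0,0,0,0,0,0,0,0,0,0,0,0,0,0,0,0,0,0,0,0,0,0,0,6,0,5,0,1,5,3,3,0,1,0,4,6,2,0,6,0,4,1,0],
  [0,0,0,0,0,0,0,0,0,0,0,0,0,0,0,0,0,0,0,0,0,0,6,0,3,0,0,6,0,0,1,3,1,0,1,0,5,6,0,0,4,0,5,5,6],
  [0,0,0,0,0,0,0,0,0,0,0,0,0,0,0,0,0,0,0,0,0,0,0,0,0,0,0,0,0,0,0,0,0,0,0,0,0,0,0,0,0,0,1,0,0],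
  [0,0,0,0,0,0,0,0,0,0,0,0,0,0,0,0,0,0,0,0,0,0,0,0,0,0,0,0,0,0,0,0,0,0,0,0,0,0,0,0,0,0,0,1,0],
  [0,0,0,0,0,0,0,0,0,0,0,0,0,0,0,0,0,0,0,0,0,0,0,0,0,0,0,0,0,0,0,0,0,0,0,0,0,0,0,0,0,0,0,0,1]]

def eRows : List (List Nat) := [
  [3,3,0,1,0,6,1,2,0,0,0,0,0,0,0,0,0,0,0,0,0,0,0,0,0,0,0,0,0,0,0,0,0,0,0,0,0,0,0,0,0,0,0,0,0],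
  [3,3,0,6,0,1,6,5,0,0,0,0,0,0,0,0,0,0,0,0,0,0,0,0,0,0,0,0,0,0,0,0,0,0,0,0,0,0,0,0,0,0,0,0,0],
  [0,0,3,6,3,1,1,2,0,0,0,0,0,0,0,0,0,0,0,0,0,0,0,0,0,0,0,0,0,0,0,0,0,0,0,0,0,0,0,0,0,0,0,0,0],
  [1,6,6,5,1,5,1,0,0,0,0,0,0,0,0,0,0,0,0,0,0,0,0,0,0,0,0,0,0,0,0,0,0,0,0,0,0,0,0,0,0,0,0,0,0],
  [0,0,3,1,3,6,6,5,0,0,0,0,0,0,0,0,0,0,0,0,0,0,0,0,0,0,0,0,0,0,0,0,0,0,0,0,0,0,0,0,0,0,0,0,0],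
  [6,1,1,5,6,5,1,0,0,0,0,0,0,0,0,0,0,0,0,0,0,0,0,0,0,0,0,0,0,0,0,0,0,0,0,0,0,0,0,0,0,0,0,0,0],
  [0,0,0,3,0,3,4,0,0,0,0,0,0,0,0,0,0,0,0,0,0,0,0,0,0,0,0,0,0,0,0,0,0,0,0,0,0,0,0,0,0,0,0,0,0],
  [1,6,1,2,6,2,5,0,0,0,0,0,0,0,0,0,0,0,0,0,0,0,0,0,0,0,0,0,0,0,0,0,0,0,0,0,0,0,0,0,0,0,0,0,0],
  [0,0,0,0,0,0,0,0,0,0,0,0,6,0,0,0,0,0,0,0,0,0,0,5,1,0,3,0,0,0,6,0,0,0,0,0,1,4,0,6,1,3,6,0,2],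
  [0,0,0,0,0,0,0,0,0,0,0,0,0,0,0,6,0,0,0,0,0,0,0,4,2,0,0,0,0,0,6,0,1,1,0,0,5,1,0,4,6,4,5,6,3],
  [0,0,0,0,0,0,0,0,0,0,0,0,0,0,0,0,0,0,6,0,0,0,0,2,0,0,3,0,0,0,1,0,3,1,0,0,4,3,0,1,0,0,0,6,1],
  [0,0,0,0,0,0,0,0,0,0,0,0,0,0,0,0,0,0,0,0,6,0,0,5,6,0,6,0,0,0,6,0,5,4,0,0,6,3,0,6,6,2,6,2,1],
  [0,0,0,0,0,0,0,0,6,0,0,0,0,0,0,0,0,0,0,0,0,0,0,0,6,0,2,0,0,0,1,0,1,0,0,0,6,4,0,0,6,3,4,3,3],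
  [0,0,0,0,0,0,0,0,0,0,0,0,0,0,0,0,0,0,0,0,0,0,0,3,5,6,6,0,0,0,2,0,5,3,0,0,4,4,0,5,0,0,2,1,0],
  [0,0,0,0,0,0,0,0,0,0,0,0,0,0,0,0,0,0,0,0,0,0,0,5,3,0,2,6,0,0,5,0,2,5,0,0,2,0,0,0,1,6,1,2,1],
  [0,0,0,0,0,0,0,0,0,6,0,0,0,0,0,0,0,0,0,0,0,0,0,0,4,0,3,0,0,0,2,0,2,1,0,0,0,2,0,5,1,4,3,3,1],
  [0,0,0,0,0,0,0,0,0,0,0,0,0,0,0,0,0,0,0,0,0,0,0,6,0,0,1,0,0,0,2,6,0,2,0,0,5,3,0,5,0,3,2,0,0],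
  [0,0,0,0,0,0,0,0,0,0,0,0,0,0,0,0,0,0,0,0,0,0,0,2,0,0,4,0,0,0,3,0,5,0,6,0,6,0,0,3,0,2,6,3,6],
  [0,0,0,0,0,0,0,0,0,0,6,0,0,0,0,0,0,0,0,0,0,0,0,5,4,0,4,0,0,0,4,0,0,3,0,0,6,2,0,1,0,4,1,0,3],
  [0,0,0,0,0,0,0,0,0,0,0,0,0,0,0,0,0,0,0,0,0,0,0,1,2,0,1,0,0,0,4,0,5,1,0,0,6,4,6,0,0,1,5,1,5],
  [0,0,0,0,0,0,0,0,0,0,0,6,0,0,0,0,0,0,0,0,0,0,0,0,1,0,2,0,0,0,3,0,5,5,0,0,1,2,0,4,1,4,6,3,1],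
  [0,0,0,0,0,0,0,0,0,0,0,0,0,0,0,0,0,0,0,0,0,6,0,5,0,0,5,0,0,0,0,0,1,2,0,0,4,1,0,2,0,6,2,2,4],
  [0,0,0,0,0,0,0,0,0,0,0,0,0,0,0,0,0,0,0,0,0,0,0,5,1,0,2,0,0,6,1,0,5,3,0,0,1,0,0,1,1,0,3,6,3],
  [0,0,0,0,0,0,0,0,0,0,0,0,0,0,0,0,0,0,0,0,0,0,0,0,2,0,0,0,0,0,3,0,5,2,0,0,3,3,0,1,0,6,0,3,3],
  [0,0,0,0,0,0,0,0,0,0,0,0,0,0,0,0,0,0,0,0,0,0,0,2,5,0,4,0,0,0,3,0,6,2,0,0,0,1,0,3,0,0,5,6,1],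
  [0,0,0,0,0,0,0,0,0,0,0,0,0,6,0,0,0,0,0,0,0,0,0,0,6,0,5,0,0,0,6,0,3,4,0,0,2,2,0,5,0,2,2,6,3],
  [0,0,0,0,0,0,0,0,0,0,0,0,0,0,0,0,0,0,0,0,0,0,0,2,2,0,0,0,0,0,3,0,1,1,0,0,2,6,0,6,0,3,0,5,6],
  [0,0,0,0,0,0,0,0,0,0,0,0,0,0,6,0,0,0,0,0,0,0,0,0,2,0,1,0,0,0,4,0,2,0,0,0,0,4,0,0,6,5,6,2,1],
  [0,0,0,0,0,0,0,0,0,0,0,0,0,0,0,0,0,0,0,0,0,0,0,5,2,0,3,0,6,0,0,0,0,4,0,0,1,2,0,6,0,1,5,4,1],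
  [0,0,0,0,0,0,0,0,0,0,0,0,0,0,0,0,0,0,0,0,0,0,6,6,4,0,0,0,0,0,1,0,3,0,0,0,0,1,0,3,6,0,2,6,2],
  [0,0,0,0,0,0,0,0,0,0,0,0,0,0,0,0,0,0,0,0,0,0,0,6,4,0,5,0,0,0,1,0,4,0,0,0,4,3,0,5,0,0,6,2,3],
  [0,0,0,0,0,0,0,0,0,0,0,0,0,0,0,0,6,0,0,0,0,0,0,1,1,0,0,0,0,0,4,0,2,1,0,0,0,6,0,6,0,5,5,1,2],
  [0,0,0,0,0,0,0,0,0,0,0,0,0,0,0,0,0,0,0,0,0,0,0,1,1,0,2,0,0,0,6,0,4,2,0,0,4,5,0,2,0,5,0,1,6],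
  [0,0,0,0,0,0,0,0,0,0,0,0,0,0,0,0,0,0,0,0,0,0,0,0,0,0,0,0,0,0,0,0,0,1,0,0,0,0,0,0,0,0,0,0,0],
  [0,0,0,0,0,0,0,0,0,0,0,0,0,0,0,0,0,6,0,0,0,0,0,0,1,0,0,0,0,0,6,0,6,0,0,0,0,0,0,0,0,0,0,0,0],
  [0,0,0,0,0,0,0,0,0,0,0,0,0,0,0,0,0,0,0,0,0,0,0,1,1,0,5,0,0,0,1,0,0,4,0,6,2,2,0,1,0,5,5,4,6],
  [0,0,0,0,0,0,0,0,0,0,0,0,0,0,0,0,0,0,0,0,0,0,0,6,3,0,5,0,0,0,6,0,5,5,0,0,5,0,0,0,0,6,2,5,6],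
  [0,0,0,0,0,0,0,0,0,0,0,0,0,0,0,0,0,0,0,0,0,0,0,3,0,0,1,0,0,0,1,0,3,2,0,0,1,3,0,6,0,5,2,2,6],
  [0,0,0,0,0,0,0,0,0,0,0,0,0,0,0,0,0,0,0,6,0,0,0,2,1,0,2,0,0,0,5,0,1,0,0,0,3,0,0,5,0,0,3,5,1],
  [0,0,0,0,0,0,0,0,0,0,0,0,0,0,0,0,0,0,0,0,0,0,0,6,3,0,5,0,0,0,6,0,5,5,0,0,4,0,0,1,0,6,2,5,6],
  [0,0,0,0,0,0,0,0,0,0,0,0,0,0,0,0,0,0,0,0,0,0,0,5,5,0,6,0,0,0,4,0,6,5,0,0,4,1,0,2,6,4,5,1,3],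
  [0,0,0,0,0,0,0,0,0,0,0,0,0,0,0,0,0,0,0,0,0,0,0,3,4,0,0,0,0,0,3,0,3,0,0,0,5,3,0,1,0,1,0,3,2],
  [0,0,0,0,0,0,0,0,0,0,0,0,0,0,0,0,0,0,0,0,0,0,0,0,0,0,0,0,0,0,0,0,0,0,0,0,0,0,0,0,0,0,1,0,0],
  [0,0,0,0,0,0,0,0,0,0,0,0,0,0,0,0,0,0,0,0,0,0,0,0,0,0,0,0,0,0,0,0,0,0,0,0,0,0,0,0,0,0,0,1,0],
  [0,0,0,0,0,0,0,0,0,0,0,0,0,0,0,0,0,0,0,0,0,0,0,0,0,0,0,0,0,0,0,0,0,0,0,0,0,0,0,0,0,0,0,0,1]]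

def fRows : List (List Nat) := [
  [0,0,1,0,0,0,0,0,0,0,0,0,0,0,0,0,0,0,0,0,0,0,0,0,0,0,0,0,0,0,0,0,0,0,0,0,0,0,0,0,0,0,0,0,0],
  [0,0,0,0,6,0,0,0,0,0,0,0,0,0,0,0,0,0,0,0,0,0,0,0,0,0,0,0,0,0,0,0,0,0,0,0,0,0,0,0,0,0,0,0,0],
  [1,0,0,0,0,0,0,0,0,0,0,0,0,0,0,0,0,0,0,0,0,0,0,0,0,0,0,0,0,0,0,0,0,0,0,0,0,0,0,0,0,0,0,0,0],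
  [0,0,0,0,0,1,0,0,0,0,0,0,0,0,0,0,0,0,0,0,0,0,0,0,0,0,0,0,0,0,0,0,0,0,0,0,0,0,0,0,0,0,0,0,0],
  [0,6,0,0,0,0,0,0,0,0,0,0,0,0,0,0,0,0,0,0,0,0,0,0,0,0,0,0,0,0,0,0,0,0,0,0,0,0,0,0,0,0,0,0,0],
  [0,0,0,1,0,0,0,0,0,0,0,0,0,0,0,0,0,0,0,0,0,0,0,0,0,0,0,0,0,0,0,0,0,0,0,0,0,0,0,0,0,0,0,0,0],
  [0,0,0,0,0,0,6,0,0,0,0,0,0,0,0,0,0,0,0,0,0,0,0,0,0,0,0,0,0,0,0,0,0,0,0,0,0,0,0,0,0,0,0,0,0],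
  [0,0,0,0,0,0,0,6,0,0,0,0,0,0,0,0,0,0,0,0,0,0,0,0,0,0,0,0,0,0,0,0,0,0,0,0,0,0,0,0,0,0,0,0,0],
  [0,0,0,0,0,0,0,0,0,6,0,0,0,0,0,0,0,0,0,0,0,0,0,0,0,1,0,1,3,0,0,2,4,5,0,0,0,4,1,3,0,0,1,0,4],
  [0,0,0,0,0,0,0,0,6,0,0,0,0,0,0,0,0,0,0,0,0,0,0,0,0,5,0,6,0,0,3,2,1,0,0,5,0,1,4,2,0,0,6,0,0],
  [0,0,0,0,0,0,0,0,0,0,0,0,0,6,0,0,0,0,0,0,0,0,0,0,0,4,0,0,2,0,0,3,6,3,0,3,0,6,2,2,0,0,4,0,1],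
  [0,0,0,0,0,0,0,0,0,0,0,0,0,0,6,0,0,0,0,0,0,0,0,0,0,6,0,6,4,0,0,6,3,4,0,2,0,4,3,5,0,0,1,0,4],
  [0,0,0,0,0,0,0,0,0,0,0,0,0,0,0,0,0,0,0,0,0,0,6,0,0,6,0,6,6,0,0,6,6,2,0,1,0,5,6,1,0,0,1,0,1],
  [0,0,0,0,0,0,0,0,0,0,6,0,0,0,0,0,0,0,0,0,0,0,0,0,0,4,0,0,1,0,1,2,6,1,0,4,0,5,4,3,0,0,1,0,0],
  [0,0,0,0,0,0,0,0,0,0,0,6,0,0,0,0,0,0,0,0,0,0,0,0,0,2,0,1,6,0,1,6,2,0,0,5,0,0,3,0,0,0,4,0,4],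
  [0,0,0,0,0,0,0,0,0,0,0,0,0,0,0,0,0,0,0,0,0,0,0,0,0,0,0,1,5,6,3,1,1,4,0,3,0,0,2,4,0,0,0,0,6],
  [0,0,0,0,0,0,0,0,0,0,0,0,0,0,0,0,0,0,0,0,0,0,0,6,0,5,0,0,1,0,6,2,6,0,0,6,0,2,4,4,0,0,0,0,3],
  [0,0,0,0,0,0,0,0,0,0,0,0,0,0,0,0,0,0,0,0,0,0,0,0,6,6,0,0,3,0,4,4,6,6,0,5,0,5,5,5,0,0,2,0,4],
  [0,0,0,0,0,0,0,0,0,0,0,0,0,0,0,0,0,0,0,0,0,0,0,0,0,6,0,0,4,0,5,4,4,1,0,5,6,0,4,2,0,0,5,0,3],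
  [0,0,0,0,0,0,0,0,0,0,0,0,0,0,0,0,0,0,0,0,0,0,0,0,0,6,6,0,4,0,0,3,4,6,0,3,0,4,3,0,0,0,3,0,2],
  [0,0,0,0,0,0,0,0,0,0,0,0,0,0,0,0,0,0,0,0,0,0,0,0,0,1,0,1,6,0,3,1,2,6,0,2,0,2,3,6,6,0,4,0,4],
  [0,0,0,0,0,0,0,0,0,0,0,0,0,0,0,0,0,0,0,0,0,0,0,0,0,4,0,0,5,0,6,3,0,0,0,5,0,5,2,6,0,6,5,0,6],
  [0,0,0,0,0,0,0,0,0,0,0,0,6,0,0,0,0,0,0,0,0,0,0,0,0,1,0,1,1,0,0,5,3,1,0,3,0,3,6,5,0,0,3,0,0],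
  [0,0,0,0,0,0,0,0,0,0,0,0,0,0,0,0,6,0,0,0,0,0,0,0,0,3,0,0,3,0,5,2,0,0,0,4,0,2,1,3,0,0,3,0,5],
  [0,0,0,0,0,0,0,0,0,0,0,0,0,0,0,0,0,6,0,0,0,0,0,0,0,0,0,0,0,0,6,2,0,2,0,2,0,4,6,3,0,0,3,0,6],
  [0,0,0,0,0,0,0,0,0,0,0,0,0,0,0,0,0,0,0,0,0,0,0,0,0,2,0,0,3,0,6,4,4,2,0,0,0,6,1,2,0,0,6,0,4],
  [0,0,0,0,0,0,0,0,0,0,0,0,0,0,0,0,0,0,0,6,0,0,0,0,0,2,0,0,6,0,1,2,1,5,0,4,0,0,3,5,0,0,5,0,3],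
  [0,0,0,0,0,0,0,0,0,0,0,0,0,0,0,0,0,0,0,0,0,0,0,0,0,0,0,6,0,0,0,0,0,0,0,0,0,0,0,0,0,0,4,0,3],
  [0,0,0,0,0,0,0,0,0,0,0,0,0,0,0,0,0,0,0,0,0,0,0,0,0,1,0,0,2,0,1,5,5,2,0,0,0,4,6,5,0,0,5,0,3],
  [0,0,0,0,0,0,0,0,0,0,0,0,0,0,0,6,0,0,0,0,0,0,0,0,0,0,0,6,3,0,0,2,2,5,0,4,0,1,2,4,0,0,3,0,5],
  [0,0,0,0,0,0,0,0,0,0,0,0,0,0,0,0,0,0,0,0,0,0,0,0,0,4,0,0,0,0,2,2,0,5,0,4,0,5,2,0,0,0,0,0,4],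
  [0,0,0,0,0,0,0,0,0,0,0,0,0,0,0,0,0,0,0,0,0,0,0,0,0,0,0,0,0,0,0,6,0,0,0,0,0,0,0,0,0,0,4,0,3],
  [0,0,0,0,0,0,0,0,0,0,0,0,0,0,0,0,0,0,0,0,0,0,0,0,0,4,0,0,4,0,1,3,2,5,0,0,0,1,6,5,0,0,1,0,5],
  [0,0,0,0,0,0,0,0,0,0,0,0,0,0,0,0,0,0,0,0,0,0,0,0,0,0,0,0,0,0,0,0,0,1,0,0,0,0,0,0,0,0,0,0,0],
  [0,0,0,0,0,0,0,0,0,0,0,0,0,0,0,0,0,0,0,0,0,0,0,0,0,0,0,0,0,0,0,0,0,0,0,0,0,0,0,0,0,0,0,6,0],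
  [0,0,0,0,0,0,0,0,0,0,0,0,0,0,0,0,0,0,0,0,0,0,0,0,0,2,0,0,6,0,2,1,2,1,0,4,0,4,6,0,0,0,5,0,2],
  [0,0,0,0,0,0,0,0,0,0,0,0,0,0,0,0,0,0,6,0,0,0,0,0,0,5,0,0,2,0,2,4,1,2,0,1,0,1,0,0,0,0,4,0,4],
  [0,0,0,0,0,0,0,0,0,0,0,0,0,0,0,0,0,0,0,0,0,0,0,0,0,1,0,0,3,0,1,5,5,4,0,0,0,3,6,5,0,0,2,0,2],
  [0,0,0,0,0,0,0,0,0,0,0,0,0,0,0,0,0,0,0,0,0,0,0,0,0,3,0,0,6,0,1,1,0,1,0,2,0,6,4,1,0,0,4,0,2],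
  [0,0,0,0,0,0,0,0,0,0,0,0,0,0,0,0,0,0,0,0,0,0,0,0,0,4,0,0,2,0,2,5,1,2,0,1,0,1,1,0,0,0,4,0,0],
  [0,0,0,0,0,0,0,0,0,0,0,0,0,0,0,0,0,0,0,0,6,0,0,0,0,4,0,6,1,0,6,6,2,0,0,4,0,1,6,6,0,0,2,0,5],
  [0,0,0,0,0,0,0,0,0,0,0,0,0,0,0,0,0,0,0,0,0,6,0,0,0,5,0,0,0,0,0,0,5,3,0,5,0,1,1,4,0,0,0,0,3],
  [0,0,0,0,0,0,0,0,0,0,0,0,0,0,0,0,0,0,0,0,0,0,0,0,0,0,0,0,0,0,0,0,0,0,0,0,0,0,0,0,0,0,1,0,0],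
  [0,0,0,0,0,0,0,0,0,0,0,0,0,0,0,0,0,0,0,0,0,0,0,0,0,0,0,0,0,0,0,0,0,0,6,0,0,0,0,0,0,0,0,0,0],
  [0,0,0,0,0,0,0,0,0,0,0,0,0,0,0,0,0,0,0,0,0,0,0,0,0,0,0,0,0,0,0,0,0,0,0,0,0,0,0,0,0,0,0,0,1]]

def gRows : List (List Nat) := [
  [2,1,5,0,1,6,3,3,5,5,1,3,2,6,3,4,5,0,1,5,0,3,6,3,4,5,6,4,5,1,1,4,0,6,1,4,6,5,2,6,5,4,0,2,4],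
  [2,5,2,5,0,5,3,5,2,3,1,6,3,5,4,4,2,2,3,2,5,6,4,4,2,1,1,1,1,3,4,4,1,5,5,3,0,3,3,2,6,0,5,2,4],
  [5,6,2,6,6,0,4,4,2,2,1,4,1,6,4,6,4,3,1,1,2,3,5,2,0,4,2,5,1,3,2,5,4,1,5,0,6,1,6,3,0,4,2,6,0],
  [2,5,6,2,5,5,0,4,5,5,6,0,2,4,0,0,2,2,4,2,6,4,3,0,2,2,0,5,6,1,4,0,2,0,2,2,2,4,6,3,1,2,0,5,5],
  [5,0,5,2,5,2,3,5,3,2,5,4,4,1,6,3,4,2,0,1,6,0,3,2,2,5,2,3,5,4,0,6,3,5,2,4,3,0,4,5,5,6,3,5,4],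
  [6,2,2,5,2,2,0,3,2,2,3,0,4,1,0,6,0,5,5,0,6,5,5,5,5,2,5,0,3,0,3,2,6,3,2,3,3,5,5,1,1,3,5,5,0],
  [0,2,0,0,2,0,1,6,1,1,6,0,2,6,0,2,6,2,4,0,2,3,2,6,2,1,0,2,3,2,2,4,1,4,1,1,4,0,4,1,2,3,2,1,1],
  [0,0,0,0,0,0,0,3,0,0,6,0,4,6,0,4,6,1,1,0,1,4,4,6,1,2,0,1,4,4,1,1,6,1,4,5,1,0,3,5,1,4,6,4,6],
  [1,1,5,2,6,4,6,6,4,0,3,4,4,4,3,6,0,1,3,4,0,0,0,6,3,3,4,1,3,6,6,0,0,5,5,0,6,4,5,5,1,3,3,5,6],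
  [2,4,0,5,6,4,4,4,6,4,2,3,2,3,3,5,1,3,5,3,5,5,4,1,4,6,3,2,0,5,5,1,2,4,3,1,6,2,5,6,2,6,2,3,3],
  [6,1,2,5,4,1,3,1,3,5,5,3,1,6,0,2,5,5,4,2,0,3,3,6,4,6,2,6,1,4,1,3,1,0,4,6,4,1,0,6,1,2,0,4,4],
  [1,1,4,1,1,0,6,2,0,4,4,2,1,2,4,6,1,6,6,4,0,2,3,2,4,3,4,4,2,3,1,1,5,5,5,2,2,3,5,0,5,2,6,2,0],
  [4,1,2,0,3,5,3,3,5,5,0,4,0,3,1,1,5,4,0,3,2,2,3,3,3,4,3,0,3,6,4,3,1,0,6,5,6,3,5,3,1,0,5,4,6],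
  [2,3,5,1,2,6,2,3,1,3,2,2,0,6,5,0,2,3,3,6,5,5,0,3,1,1,1,0,5,0,2,1,5,0,2,2,6,3,1,0,4,6,4,4,6],
  [6,6,4,6,1,6,5,0,6,6,4,5,2,4,3,6,0,0,4,1,5,5,2,1,6,0,3,2,0,4,3,0,3,2,5,5,4,1,4,4,0,5,4,3,6],
  [1,6,5,3,1,0,2,1,1,4,0,3,4,4,4,6,2,3,5,0,0,3,2,0,3,4,5,4,6,2,0,4,0,6,3,6,0,4,5,2,0,5,0,0,1],
  [4,5,2,4,3,2,3,0,6,3,1,4,1,0,3,2,5,0,5,2,4,5,6,1,6,2,5,3,4,5,4,6,0,0,6,5,6,6,0,2,5,5,1,0,6],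
  [2,5,0,5,1,3,0,5,1,1,2,2,6,2,1,6,5,5,5,0,1,0,4,2,4,2,3,0,6,2,6,5,6,6,6,4,4,3,1,3,4,4,5,6,2],
  [0,6,3,3,4,3,3,0,3,3,4,6,1,3,2,4,2,4,6,6,4,5,3,4,6,4,1,0,0,6,6,2,2,4,4,4,1,5,6,6,4,5,1,3,1],
  [3,2,5,6,5,2,2,3,5,4,6,3,5,1,3,3,6,4,5,1,6,0,0,4,5,4,0,4,0,4,0,0,6,1,6,4,6,5,2,1,4,3,1,2,3],
  [0,5,4,2,4,1,0,3,0,6,0,1,1,0,0,0,3,4,2,6,3,1,1,4,5,3,3,5,0,5,2,4,3,3,6,5,0,6,0,6,0,3,4,2,4],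
  [6,2,2,6,0,0,4,4,5,3,5,5,6,5,3,2,2,1,0,2,3,5,1,5,1,0,0,5,3,1,3,4,4,1,2,3,5,6,0,6,1,6,1,3,3],
  [2,4,1,3,1,0,3,3,3,2,6,2,6,5,4,1,0,2,0,3,4,4,1,4,5,2,5,6,4,2,4,4,5,1,6,1,0,4,5,6,3,5,3,3,1],
  [0,0,3,0,0,1,5,6,1,1,4,5,2,6,5,4,0,5,1,2,1,1,3,1,4,3,5,4,1,0,0,4,1,3,3,2,4,6,0,0,6,5,3,0,4],
  [3,5,5,2,2,5,0,4,0,5,4,5,4,2,1,6,5,5,4,4,0,1,5,3,6,2,2,5,5,5,1,6,2,5,6,4,2,2,6,5,2,4,1,4,3],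
  [3,5,4,2,4,0,0,5,0,0,6,2,3,1,0,3,3,2,4,1,1,4,4,2,0,0,1,4,1,3,4,4,4,6,5,6,4,1,1,4,6,6,1,0,2],
  [5,0,0,2,5,2,5,4,2,5,2,2,3,4,2,4,6,5,6,4,0,5,2,2,6,6,6,5,3,3,6,5,2,5,1,0,4,1,5,0,5,2,0,5,6],
  [0,5,2,1,6,0,6,6,4,6,0,6,0,1,6,5,6,1,3,0,2,6,1,0,3,4,1,0,2,0,6,1,1,5,4,6,0,3,0,6,6,6,6,6,3],
  [3,6,1,6,4,4,6,5,5,1,4,0,4,3,0,4,6,6,1,1,0,2,6,2,6,2,0,2,3,2,1,3,4,5,4,5,3,2,4,4,5,4,1,3,6],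
  [4,0,3,4,1,5,3,5,1,6,6,3,4,4,0,0,0,3,4,3,5,3,3,3,2,6,0,4,5,3,4,5,6,2,3,4,1,3,5,0,6,1,6,2,2],
  [6,5,3,4,3,0,1,1,6,0,2,1,0,2,3,4,0,0,5,5,2,6,2,0,4,5,3,3,5,3,6,3,4,4,4,3,0,2,5,0,3,5,2,3,0],
  [1,4,1,5,5,3,5,2,3,5,2,0,1,3,0,5,4,1,3,0,6,6,2,5,3,3,1,1,2,0,3,0,6,4,2,3,0,4,4,1,3,6,0,4,4],
  [0,0,0,5,0,0,6,5,3,1,4,2,5,1,4,1,4,2,0,2,2,6,6,4,3,0,0,1,0,2,5,0,0,0,4,1,6,1,0,2,4,5,2,1,1],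
  [2,2,2,5,5,5,0,0,4,3,1,0,6,6,0,1,1,2,0,3,6,4,1,6,5,5,4,5,2,6,2,4,1,6,6,2,0,2,5,3,1,3,6,1,2],
  [5,6,5,6,2,6,3,5,1,0,3,0,0,6,0,2,3,0,4,4,0,6,3,6,1,1,5,6,4,1,0,1,5,6,4,2,3,3,0,0,2,4,5,5,5],
  [5,0,1,3,2,3,3,1,6,6,0,4,3,1,1,5,3,0,1,4,0,2,1,5,2,6,6,1,2,0,0,3,5,0,3,6,4,4,0,1,3,4,1,2,3],
  [5,0,5,4,6,2,5,3,1,2,1,6,3,2,3,6,2,3,6,2,4,6,5,1,5,0,5,3,5,6,1,6,1,3,1,0,3,3,0,5,1,3,2,3,2],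
  [6,0,4,6,4,1,4,2,0,1,6,6,0,6,6,1,2,0,0,0,2,0,1,6,0,4,5,3,3,4,6,1,5,3,1,5,1,6,6,0,6,6,0,6,1],
  [4,5,2,6,5,6,2,4,2,0,3,2,1,3,4,1,0,1,2,2,0,3,0,1,2,4,1,5,2,5,6,2,1,1,0,3,1,6,2,4,3,2,4,2,1],
  [0,2,0,2,5,0,2,2,3,5,5,0,6,1,4,0,6,4,6,3,0,1,1,0,3,5,2,0,2,4,2,2,1,5,4,5,5,5,4,2,6,5,5,4,2],
  [0,6,3,4,4,5,3,5,0,5,1,6,6,2,4,1,4,6,5,2,6,2,3,4,1,4,2,2,4,5,4,4,0,6,1,1,2,4,5,1,5,6,1,4,0],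
  [0,1,1,2,2,2,1,5,4,1,6,1,5,2,6,5,0,1,2,5,5,1,2,2,2,6,4,6,0,6,3,1,2,1,1,2,0,2,3,3,3,1,3,0,3],
  [4,2,4,2,5,2,0,0,4,3,2,0,4,5,0,6,2,0,3,6,6,3,3,5,0,5,1,5,1,1,0,0,1,4,0,1,4,5,2,3,1,4,3,0,5],
  [2,2,2,1,6,1,3,5,0,1,6,0,3,3,0,1,6,1,3,5,2,4,0,3,0,0,4,3,6,2,1,6,4,4,5,0,4,6,3,6,0,6,3,4,1],
  [0,4,0,0,3,0,0,0,1,6,4,0,6,3,0,3,4,4,4,1,0,3,1,3,3,6,6,5,6,4,4,5,5,4,4,1,3,6,4,4,0,4,3,3,3]]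

end Cfsg.Agent.Lib.ON45.Data
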