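import Mathlib

/-!
# Products of square matrices over the integers modulo seven on packed rows
-/

set_option autoImplicit false

namespace Cfsg.Agent.Lib.ON45

/-- Width of one field of a packed row. -/
def fieldBase : ℕ := 65536

/-- A row as one number. -/
def packRow : List ℕ → ℕ
  | [] => 0
  | x :: l => x + fieldBase * packRow l

/-- The unpacked combination of rows. -/
def comb (n : ℕ) : List ℕ → List (List ℕ) → List ℕ
  | c :: r, u :: us => List.zipWith (fun x y => c * x + y) u (comb n r us)
  | _, _ => List.replicate n 0

/-- The packed combination of rows. -/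
def dotP : List ℕ → List ℕ → ℕ
  | c :: r, u :: us => c * u + dotP r us
  | _, _ => 0

/-- Read a packed row back modulo seven. -/
def unpackRow : ℕ → ℕ → List ℕ
  | 0, _ => []
  | n + 1, s => s % fieldBase % 7 :: unpackRow n (s / fieldBase)

/-- The product. -/
def mulRows (n : ℕ) (A B : List (List ℕ)) : List (List ℕ) :=
  let P := B.map packRow
  A.map fun r => unpackRow n (dotP r P)

theorem packRow_replicate : ∀ n : ℕ, packRow (List.replicate n 0) = 0
  | 0 => rfl
  | n + 1 => by rw [List.replicate_succ, packRow, packRow_replicate n, mul_zero, add_zero]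

theorem packRow_zipWith (c : ℕ) : ∀ u v : List ℕ, u.length = v.length →
    packRow (List.zipWith (fun x y => c * x + y) u v) = c * packRow u + packRow v
  | [], [], _ => by simp [packRow]
  | [], _ :: _, h => by simp at h
  | _ :: _, [], h => by simp at h
  | x :: u, y :: v, h => by
    rw [List.zipWith_cons_cons, packRow, packRow, packRow, packRow_zipWith c u v (by simpa using h)]
    ring

theorem length_comb (n : ℕ) : ∀ (r : List ℕ) (us : List (List ℕ)), (∀ u ∈ us, u.length = n) →
    (comb n r us).length = n
  | [], _, _ => by simp [comb]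
  | _ :: _, [], _ => by simp [comb]
  | _ :: r, u :: us, h => by
    rw [comb, List.length_zipWith, length_comb n r us fun v hv => h v (List.mem_cons_of_mem _ hv),
      h u List.mem_cons_self, min_self]

theorem dotP_eq (n : ℕ) : ∀ (r : List ℕ) (us : List (List ℕ)), (∀ u ∈ us, u.length = n) →
    dotP r (us.map packRow) = packRow (comb n r us)
  | [], _, _ => by simp [dotP, comb, packRow_replicate]
  | _ :: _, [], _ => by simp [dotP, comb, packRow_replicate]
  | c :: r, u :: us, h => by
    have h' : ∀ v ∈ us, v.length = n := fun v hv => h v (List.mem_cons_of_mem _ hv)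
    rw [List.map_cons, dotP, comb, packRow_zipWith c _ _ (by rw [length_comb n r us h', h u List.mem_cons_self]),
      dotP_eq n r us h']

theorem unpack_packRow : ∀ l : List ℕ, (∀ x ∈ l, x < fieldBase) →
    unpackRow l.length (packRow l) = l.map (· % 7)
  | [], _ => rfl
  | x :: l, h => by
    have hx : x < fieldBase := h x List.mem_cons_self
    rw [List.length_cons, packRow, unpackRow, Nat.add_mul_mod_self_left, Nat.mod_eq_of_lt hx,
      Nat.add_mul_div_left _ _ (by norm_num [fieldBase]), Nat.div_eq_of_lt hx, zero_add,
      unpack_packRow l fun y hy => h y (List.mem_cons_of_mem _ hy), List.map_cons]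

theorem getD_comb (n : ℕ) : ∀ (r : List ℕ) (us : List (List ℕ)), r.length = us.length →
    (∀ u ∈ us, u.length = n) → ∀ j, (comb n r us).getD j 0 =
      ∑ k ∈ Finset.range r.length, r.getD k 0 * (us.getD k []).getD j 0
  | [], [], _, _, j => by simp [comb]
  | [], _ :: _, h, _, _ => by simp at h
  | _ :: _, [], h, _, _ => by simp at h
  | c :: r, u :: us, h, hu, j => by
    have h' : ∀ v ∈ us, v.length = n := fun v hv => hu v (List.mem_cons_of_mem _ hv)
    rw [comb, List.length_cons, Finset.sum_range_succ']
    simp only [List.getD_cons_succ, List.getD_cons_zero]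
    rw [← getD_comb n r us (by simpa using h) h' j, add_comm]
    rcases Nat.lt_or_ge j n with hj | hj
    · have h1 : j < u.length := by rw [hu u List.mem_cons_self]; exact hj
      have h2 : j < (comb n r us).length := by rw [length_comb n r us h']; exact hj
      rw [List.getD_eq_getElem _ _ (by rw [List.length_zipWith]; omega), List.getElem_zipWith,
        List.getD_eq_getElem _ _ h1, List.getD_eq_getElem _ _ h2]
    · rw [List.getD_eq_default _ _ (by rw [List.length_zipWith, hu u List.mem_cons_self]; omega),
        List.getD_eq_default _ _ (by rw [hu u List.mem_cons_self]; omega),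
        List.getD_eq_default _ _ (by rw [length_comb n r us h']; omega), mul_zero, zero_add]

/-- Square lists with small entries. -/
def wellFormed (n : ℕ) (A : List (List ℕ)) : Bool :=
  A.length == n && A.all fun r => r.length == n && r.all fun x => Nat.blt x 7

/-- The matrix of a list of rows. -/
def toMat (n : ℕ) (A : List (List ℕ)) : Matrix (Fin n) (Fin n) (ZMod 7) :=
  Matrix.of fun i j => ((A.getD i []).getD j 0 : ℕ)

theorem wellFormed_spec {n : ℕ} {A : List (List ℕ)} (h : wellFormed n A = true) :
    A.length = n ∧ ∀ r ∈ A, r.length = n ∧ ∀ x ∈ r, x < 7 := by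
  simp only [wellFormed, Bool.and_eq_true, beq_iff_eq, List.all_eq_true, Nat.blt_eq] at h
  exact h

theorem getD_lt_seven {r : List ℕ} (h : ∀ x ∈ r, x < 7) (k : ℕ) : r.getD k 0 < 7 := by
  rcases Nat.lt_or_ge k r.length with hk | hk
  · rw [List.getD_eq_getElem _ _ hk]; exact h _ (List.getElem_mem hk)
  · rw [List.getD_eq_default _ _ hk]; norm_num

theorem toMat_mulRows {n : ℕ} (hn : n * 36 < fieldBase) {A B : List (List ℕ)}
    (hA : wellFormed n A = true) (hB : wellFormed n B = true) :
    toMat n (mulRows n A B) = toMat n A * toMat n B := by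
  obtain ⟨hA1, hA2⟩ := wellFormed_spec hA
  obtain ⟨hB1, hB2⟩ := wellFormed_spec hB
  ext i j
  have hi : (i : ℕ) < A.length := hA1.symm ▸ i.2
  set r := A.getD i [] with hr
  have hmem : r ∈ A := by rw [hr, List.getD_eq_getElem _ _ hi]; exact List.getElem_mem hi
  obtain ⟨hrl, hr7⟩ := hA2 r hmem
  have hBn : ∀ u ∈ B, u.length = n := fun u hu => (hB2 u hu).1
  have hc := getD_comb n r B (hrl.trans hB1.symm) hBn
  have hBk : ∀ k t, (B.getD k []).getD t 0 < 7 := by
    intro k t
    rcases Nat.lt_or_ge k B.length with hk | hk
    · rw [List.getD_eq_getElem _ _ hk]; exact getD_lt_seven (hB2 _ (List.getElem_mem hk)).2 t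
    · rw [List.getD_eq_default _ _ hk]; simp
  have hsmall : ∀ x ∈ comb n r B, x < fieldBase := by
    intro x hx
    obtain ⟨t, ht, rfl⟩ := List.getElem_of_mem hx
    rw [← List.getD_eq_getElem _ 0 ht, hc t]
    refine lt_of_le_of_lt ?_ hn
    calc ∑ k ∈ Finset.range r.length, r.getD k 0 * (B.getD k []).getD t 0
        ≤ ∑ _k ∈ Finset.range r.length, 36 := Finset.sum_le_sum fun k _ => by
          have h1 := getD_lt_seven hr7 k
          have h2 := hBk k t
          calc r.getD k 0 * (B.getD k []).getD t 0 ≤ 6 * 6 := Nat.mul_le_mul (by omega) (by omega)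
            _ = 36 := rfl
      _ = n * 36 := by simp [hrl]
  have hrow : (mulRows n A B).getD i [] = (comb n r B).map (· % 7) := by
    rw [List.getD_eq_getElem _ _ (by simp [mulRows, hi])]
    simp only [mulRows, List.getElem_map]
    rw [← List.getD_eq_getElem _ [] hi, ← hr, dotP_eq n r B hBn]
    have := unpack_packRow (comb n r B) hsmall
    rwa [length_comb n r B hBn] at this
  rw [Matrix.mul_apply]
  show (((mulRows n A B).getD i []).getD j 0 : ZMod 7) = _
  rw [hrow]
  have hj : (j : ℕ) < (comb n r B).length := by rw [length_comb n r B hBn]; exact j.2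
  rw [List.getD_eq_getElem _ _ (by simpa using hj), List.getElem_map, ← List.getD_eq_getElem _ 0 hj, hc, hrl,
    ZMod.natCast_mod, Nat.cast_sum, Finset.sum_range]
  refine Finset.sum_congr rfl fun k _ => ?_
  simp only [toMat, Matrix.of_apply, hr, Nat.cast_mul]

end Cfsg.Agent.Lib.ON45
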