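import Cfsg.Prelude.Def_Spor_ON
import Cfsg.Agent.Lib.ON45.Pack
import Cfsg.Agent.Lib.ON45.Data

/-!
# Seven units of degree forty-five satisfying the O'Nan relators up to scalars
-/

set_option autoImplicit false

namespace Cfsg.Agent.Lib.ON45

open Cfsg.Spor

/-- The ring the representation lives in. -/
abbrev M45 : Type := Matrix (Fin 45) (Fin 45) (ZMod 7)

theorem length_unpackRow : ∀ n s, (unpackRow n s).length = n
  | 0, _ => rfl
  | n + 1, s => by rw [unpackRow, List.length_cons, length_unpackRow n]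

theorem lt_seven_unpackRow : ∀ n s, ∀ x ∈ unpackRow n s, x < 7
  | 0, _, x, h => by simp [unpackRow] at h
  | n + 1, s, x, h => by
    rw [unpackRow, List.mem_cons] at h
    rcases h with rfl | h
    · exact Nat.mod_lt _ (by norm_num)
    · exact lt_seven_unpackRow n _ x h

theorem wellFormed_mulRows {n : ℕ} {A : List (List ℕ)} (B : List (List ℕ)) (hA : wellFormed n A = true) :
    wellFormed n (mulRows n A B) = true := by
  simp only [wellFormed, Bool.and_eq_true, beq_iff_eq, List.all_eq_true, Nat.blt_eq] at hA ⊢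
  refine ⟨by simp [mulRows, hA.1], fun r hr => ?_⟩
  simp only [mulRows, List.mem_map] at hr
  obtain ⟨r₀, -, rfl⟩ := hr
  exact ⟨length_unpackRow _ _, lt_seven_unpackRow _ _⟩

/-- The rows of `k` times the unit matrix. -/
def scalRows (k : ℕ) : List (List ℕ) :=
  (List.range 45).map fun i => (List.range 45).map fun j => bif Nat.beq i j then k else 0

theorem toMat_scalRows (k : ℕ) : toMat 45 (scalRows k) = (k : ZMod 7) • (1 : M45) := by
  ext i j
  rcases eq_or_ne i j with rfl | h
  · simp [toMat, scalRows]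
  · have hb : Nat.beq i j = false := by
      rw [← Bool.not_eq_true]; intro e; exact h (Fin.ext (Nat.eq_of_beq_eq_true e))
    simp [toMat, scalRows, hb, h]

/-- The rows of a letter: the six involutions, the seventh generator and its inverse. -/
def letter : ℕ → List (List ℕ)
  | 0 => Data.aRows | 1 => Data.bRows | 2 => Data.cRows | 3 => Data.dRows | 4 => Data.eRows | 5 => Data.fRows
  | 6 => Data.gRows | _ => mulRows 45 (mulRows 45 Data.gRows Data.gRows) Data.gRows

theorem wellFormed_letter : ∀ x, x < 8 → wellFormed 45 (letter x) = true := by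
  decide +kernel

/-- The rows of a word. -/
def evalRows (w : List ℕ) : List (List ℕ) := w.foldl (fun M x => mulRows 45 M (letter x)) (scalRows 1)

theorem wellFormed_scalRows_one : wellFormed 45 (scalRows 1) = true := by decide +kernel

theorem toMat_foldl : ∀ (w : List ℕ) (M : List (List ℕ)), (∀ x ∈ w, x < 8) → wellFormed 45 M = true →
    toMat 45 (w.foldl (fun M x => mulRows 45 M (letter x)) M) =
      toMat 45 M * (w.map fun x => toMat 45 (letter x)).prod
  | [], M, _, _ => by simp
  | x :: w, M, h, hM => by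
    have hx := h x List.mem_cons_self
    rw [List.foldl_cons, toMat_foldl w _ (fun y hy => h y (List.mem_cons_of_mem _ hy)) (wellFormed_mulRows _ hM),
      toMat_mulRows (by norm_num [fieldBase]) hM (wellFormed_letter x hx), List.map_cons, List.prod_cons, mul_assoc]

theorem prod_of_evalRows {w : List ℕ} {k : ℕ} (h : evalRows w = scalRows k) (hw : ∀ x ∈ w, x < 8) :
    (w.map fun x => toMat 45 (letter x)).prod = (k : ZMod 7) • (1 : M45) := by
  have := toMat_foldl w _ hw wellFormed_scalRows_one
  rw [toMat_scalRows, Nat.cast_one, one_smul, one_mul] at this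
  rw [← this, ← toMat_scalRows, ← h]
  rfl

theorem gen_mul_self : ∀ x < 6, evalRows [x, x] = scalRows 1 := by decide +kernel

theorem gen_mul_inv : evalRows [6, 7] = scalRows 1 ∧ evalRows [7, 6] = scalRows 1 := by decide +kernel

theorem coxeter_table :
    ∀ p ∈ [(0,1,3),(0,2,2),(0,3,2),(0,4,2),(0,5,2),(1,0,3),(1,2,3),(1,3,2),(1,4,2),(1,5,2),(2,0,2),(2,1,3),(2,3,8),
      (2,4,2),(2,5,2),(3,0,2),(3,1,2),(3,2,8),(3,4,3),(3,5,2),(4,0,2),(4,1,2),(4,2,2),(4,3,3),(4,5,3),(5,0,2),(5,1,2),
      (5,2,2),(5,3,2),(5,4,3)],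
      evalRows (List.replicate p.2.2 [p.1, p.2.1]).flatten = scalRows 1 := by decide +kernel

theorem r1_eval : evalRows [0, 5, 7, 7] = scalRows 1 := by decide +kernel
theorem r2_eval : evalRows [0, 5, 3, 2, 3, 2, 3, 2, 3, 2] = scalRows 1 := by decide +kernel
theorem r3_eval : evalRows [2, 7, 3, 7, 3, 2, 3, 6, 3, 6] = scalRows 1 := by decide +kernel
theorem r4_eval : evalRows [3, 7, 2, 7, 2, 3, 2, 6, 2, 6] = scalRows 1 := by decide +kernel
theorem r5_eval : evalRows [1, 2, 3, 6, 1, 2, 3, 6, 1, 2, 3, 6, 1, 2, 3, 6, 1, 2, 3, 6] = scalRows 4 := by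
  decide +kernel
theorem r6_eval : evalRows [6, 1, 2, 6, 2, 1, 6, 1, 2, 6, 2] = scalRows 4 := by decide +kernel
theorem r7_eval : evalRows [6, 4, 3, 6, 3, 4, 6, 4, 3, 6, 3] = scalRows 4 := by decide +kernel

end Cfsg.Agent.Lib.ON45
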