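import Cfsg.Agent.Lib.ON45.Units
import Cfsg.Agent.Lib.ON45.Rep

/-!
# A stem extension of the presented O'Nan group with kernel of order three
-/

set_option autoImplicit false

namespace Cfsg.Agent.Lib.ON45

open Cfsg.Spor

/-- The matrix of a letter. -/
noncomputable def mat : ℕ → M45 := fun x => toMat 45 (letter x)

theorem prod_mat {w : List ℕ} {k : ℕ} (h : evalRows w = scalRows k) (hw : w.all (fun x => decide (x < 8)) = true) :
    (w.map mat).prod = ((k : ℕ) : ZMod 7) • (1 : M45) :=
  prod_of_evalRows h fun x hx => of_decide_eq_true (List.all_eq_true.mp hw x hx)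

theorem prod_mat_one {w : List ℕ} (h : evalRows w = scalRows 1) (hw : w.all (fun x => decide (x < 8)) = true) :
    (w.map mat).prod = 1 := (prod_mat h hw).trans (by rw [Nat.cast_one, one_smul])

attribute [local irreducible] toMat letter scalRows evalRows mat

theorem cox_rows (x y : ON.Gen) (hx : x ≠ .g) (hy : y ≠ .g) :
    evalRows (List.replicate (coxLabel ON.edges x y) [num x, num y]).flatten = scalRows 1 ∧
      (List.replicate (coxLabel ON.edges x y) [num x, num y]).flatten.all (fun t => decide (t < 8)) = true := by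
  cases x <;> cases y <;> first
    | exact absurd rfl hx
    | exact absurd rfl hy
    | refine ⟨?_, by decide⟩
  all_goals
    simp only [num, coxLabel, ON.edges]
  all_goals first
    | exact gen_mul_self _ (by decide)
    | exact coxeter_table (_, _, _) (by decide)

theorem smul_one_mul_smul_one (a b : ZMod 7) : (a • (1 : M45)) * (b • (1 : M45)) = (a * b) • (1 : M45) := by
  rw [smul_mul_smul_comm, one_mul]

theorem wordValues : WordValues mat (((4 : ℕ) : ZMod 7) • (1 : M45)) (((2 : ℕ) : ZMod 7) • (1 : M45)) where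
  zz := by rw [smul_one_mul_smul_one, show ((4 : ℕ) : ZMod 7) * ((2 : ℕ) : ZMod 7) = 1 from by decide, one_smul]
  central v := by rw [smul_mul_assoc, one_mul, mul_smul_comm, mul_one]
  z3 := by rw [smul_pow, one_pow, show ((4 : ℕ) : ZMod 7) ^ 3 = 1 from by decide, one_smul]
  z1 h := by
    have h' := Matrix.ext_iff.mpr h 0 0
    rw [Matrix.smul_apply, Matrix.one_apply_eq, smul_eq_mul, mul_one] at h'
    exact absurd h' (by decide)
  invol x hx := prod_mat_one (gen_mul_self x hx) (by simp; omega)
  inv_g := ⟨prod_mat_one gen_mul_inv.1 rfl, prod_mat_one gen_mul_inv.2 rfl⟩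
  cox x y hx hy := prod_mat_one (cox_rows x y hx hy).1 (cox_rows x y hx hy).2
  r1 := prod_mat_one r1_eval rfl
  r2 := prod_mat_one r2_eval rfl
  r3 := prod_mat_one r3_eval rfl
  r4 := prod_mat_one r4_eval rfl
  r5 := prod_mat r5_eval rfl
  r6 := prod_mat r6_eval rfl
  r7 := prod_mat r7_eval rfl

/-- The stem extension. -/
theorem exists_stem [Finite ON] :
    ∃ (Γ : Type) (_ : Group Γ) (_ : Finite Γ) (σ : Γ →* ON), Cfsg.IsStemExtension σ ∧
      Nonempty (σ.ker ≃* Multiplicative (ZMod 3)) :=
  (exists_twisted wordValues).elim fun T => Twisted.exists_stem T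

end Cfsg.Agent.Lib.ON45
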