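import Cfsg.Agent.Lib.ON45.Cover
import Cfsg.Prelude.Def_Sporadic

/-!
# The triple cover of the presented O'Nan group as matrices over the field with seven elements
-/

set_option autoImplicit false

namespace Cfsg.Agent.Lib.ON45

open Cfsg.Spor

/-- The centre of a nonabelian simple group is trivial. -/
theorem center_eq_bot_of_perfect {G : Type} [Group G] [IsSimpleGroup G] (h : commutator G = ⊤) :
    Subgroup.center G = ⊥ := by
  refine ((inferInstance : (Subgroup.center G).Normal).eq_bot_or_eq_top).resolve_right fun e => ?_
  have : commutator G ≤ ⊥ := by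
    rw [commutator_def, Subgroup.commutator_le]
    intro x _ y _
    rw [Subgroup.mem_bot, commutatorElement_eq_one_iff_mul_comm]
    exact Subgroup.mem_center_iff.mp (e ▸ Subgroup.mem_top y) x
  rw [h] at this
  exact bot_ne_top (α := Subgroup G) (le_antisymm bot_le this)

namespace Twisted

variable {U : Type} [Group U] (T : Twisted U)

/-- The first projection of the covering group. -/
def val : T.Cover →* U := (MonoidHom.fst _ _).comp T.Cover.subtype

theorem val_zee : T.val T.zee = T.z := rfl

theorem val_injective [IsSimpleGroup ON] : Function.Injective T.val := by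
  rw [← MonoidHom.ker_eq_bot_iff]
  have hn : (T.val.ker.map T.cover).Normal := Subgroup.Normal.map inferInstance _ T.cover_surjective
  rcases hn.eq_bot_or_eq_top with h | h
  · rw [eq_bot_iff]
    intro x hx
    have h2 : T.cover x ∈ (⊥ : Subgroup ON) := h ▸ Subgroup.mem_map_of_mem _ hx
    exact Subtype.ext (Prod.ext hx (Subgroup.mem_bot.mp h2))
  · exfalso
    have hcen : ∀ x y, T.val x * T.val y = T.val y * T.val x := by
      intro x y
      obtain ⟨n, hn, e⟩ := h.ge (Subgroup.mem_top (T.cover x))
      have hk : n⁻¹ * x ∈ T.cover.ker := by rw [MonoidHom.mem_ker, map_mul, map_inv, e, inv_mul_cancel]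
      rw [ker_eq, Subgroup.mem_zpowers_iff] at hk
      obtain ⟨m, hm⟩ := hk
      have hx : T.val x = T.z ^ m := by
        have := congrArg T.val hm
        rw [map_zpow, val_zee, map_mul, map_inv, MonoidHom.mem_ker.mp hn, inv_one, one_mul] at this
        exact this.symm
      rw [hx]
      exact ((show Commute T.z (T.val y) from T.central _).zpow_left m).eq
    have hle : commutator T.Cover ≤ T.val.ker := by
      rw [commutator_def, Subgroup.commutator_le]
      intro x _ y _
      rw [MonoidHom.mem_ker, map_commutatorElement, commutatorElement_eq_one_iff_mul_comm]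
      exact hcen x y
    exact T.z1 (hle (T.commutator_cover ▸ Subgroup.mem_top T.zee))

theorem center_eq [IsSimpleGroup ON] (hON : commutator ON = ⊤) : Subgroup.center T.Cover = T.cover.ker := by
  refine le_antisymm (fun x hx => ?_) T.ker_le_center
  have : T.cover x ∈ Subgroup.center ON := by
    refine Subgroup.mem_center_iff.mpr fun y => ?_
    obtain ⟨v, rfl⟩ := T.cover_surjective y
    rw [← map_mul, ← map_mul, Subgroup.mem_center_iff.mp hx v]
  rw [center_eq_bot_of_perfect hON] at this
  exact this

end Twisted

/-- Twisted generators in a general linear group give a covering group in the special linear group. -/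
theorem exists_special_of_twisted {R : Type} [CommRing R] {n : Type} [Fintype n] [DecidableEq n]
    (T : Twisted (Matrix n n R)ˣ) (hON : commutator ON = ⊤) (hs : Cfsg.IsON ON) :
    ∃ H : Subgroup (Matrix.SpecialLinearGroup n R),
      Nat.card (Subgroup.center H) = 3 ∧ Cfsg.IsON (H ⧸ Subgroup.center H) := by
  obtain ⟨hsimple, hcard⟩ := hs
  have hdet : ∀ x : T.Cover, (T.val x : Matrix n n R).det = 1 := by
    intro x
    have h := Abelianization.commutator_subset_ker ((Units.map (Matrix.detMonoidHom (n := n) (R := R))).comp T.val)
      (T.commutator_cover ▸ Subgroup.mem_top x)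
    exact congrArg Units.val (MonoidHom.mem_ker.mp h)
  let g : T.Cover →* Matrix.SpecialLinearGroup n R :=
    { toFun := fun x => ⟨(T.val x : Matrix n n R), hdet x⟩
      map_one' := Subtype.ext (congrArg Units.val (map_one T.val))
      map_mul' := fun x y => Subtype.ext (congrArg Units.val (map_mul T.val x y)) }
  have hg : Function.Injective g := fun x y h => T.val_injective (Units.ext (congrArg Subtype.val h))
  let e : T.Cover ≃* g.range := MonoidHom.ofInjective hg
  refine ⟨g.range, ?_, ?_⟩
  · rw [← Nat.card_congr (Subgroup.centerCongr e).toEquiv, T.center_eq hON, T.card_ker]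
  · have hmap : (Subgroup.center T.Cover).map e.toMonoidHom = Subgroup.center g.range := by
      ext y
      constructor
      · rintro ⟨x, hx, rfl⟩
        exact Subgroup.mem_center_iff.mpr fun v => by
          obtain ⟨u, rfl⟩ := e.surjective v
          exact (map_mul e u x).symm.trans ((congrArg e (Subgroup.mem_center_iff.mp hx u)).trans (map_mul e x u))
      · intro hy
        refine ⟨e.symm y, Subgroup.mem_center_iff.mpr fun u => e.injective ?_, e.apply_symm_apply y⟩
        rw [map_mul, map_mul, e.apply_symm_apply]
        exact Subgroup.mem_center_iff.mp hy (e u)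
    let q : T.Cover ⧸ Subgroup.center T.Cover ≃* g.range ⧸ Subgroup.center g.range :=
      QuotientGroup.congr _ _ e hmap
    let r : ON ≃* g.range ⧸ Subgroup.center g.range :=
      (QuotientGroup.quotientKerEquivOfSurjective T.cover T.cover_surjective).symm.trans
        ((QuotientGroup.quotientMulEquivOfEq (T.center_eq hON).symm).trans q)
    have : Nontrivial (g.range ⧸ Subgroup.center g.range) := r.toEquiv.symm.nontrivial
    exact ⟨IsSimpleGroup.isSimpleGroup_of_surjective r.toMonoidHom r.surjective,
      (Nat.card_congr r.toEquiv).symm.trans hcard⟩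

/-- The special linear group has a subgroup with centre of order three and the presented group as central quotient. -/
theorem exists_special (hON : commutator ON = ⊤) (hs : Cfsg.IsON ON) :
    ∃ H : Subgroup (Matrix.SpecialLinearGroup (Fin 45) (ZMod 7)),
      Nat.card (Subgroup.center H) = 3 ∧ Cfsg.IsON (H ⧸ Subgroup.center H) :=
  (exists_twisted wordValues).elim fun T => exists_special_of_twisted T hON hs

end Cfsg.Agent.Lib.ON45
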