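import Cfsg.Prelude.Def_KGroupFacts
import Cfsg.Prelude.Def_Spor_ON
import Mathlib

/-!
# A stem extension of the presented O'Nan group from seven elements satisfying its relators up to a central element
-/

set_option autoImplicit false

namespace Cfsg.Agent.Lib.ON45

open Cfsg.Spor

/-- The relators of the presentation. -/
abbrev onRels : Set (FreeGroup ON.Gen) := coxRelators ON.edges ∪ {r | r ∈ ON.extra}

/-- Seven elements of a group satisfying the relators up to a central element of order three. -/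
structure Twisted (U : Type) [Group U] where
  u : ON.Gen → U
  z : U
  central : ∀ v, z * v = v * z
  z3 : z ^ 3 = 1
  z1 : z ≠ 1
  cox : ∀ x y : ON.Gen, x ≠ .g → y ≠ .g → (u x * u y) ^ coxLabel ON.edges x y = 1
  r1 : u .a * u .f * ((u .g) ^ 2)⁻¹ = 1
  r2 : u .a * u .f * ((u .c * u .d) ^ 4)⁻¹ = 1
  r3 : u .c * ((u .d * u .g * u .d * u .g)⁻¹ * u .c * (u .d * u .g * u .d * u .g)) = 1
  r4 : u .d * ((u .c * u .g * u .c * u .g)⁻¹ * u .d * (u .c * u .g * u .c * u .g)) = 1
  r5 : (u .b * u .c * u .d * u .g) ^ 5 = z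
  r6 : u .g * u .b * ((u .c)⁻¹ * u .g * u .c) * ((u .b)⁻¹ * u .g * u .b) * ((u .c)⁻¹ * u .g * u .c) = z
  r7 : u .g * u .e * ((u .d)⁻¹ * u .g * u .d) * ((u .e)⁻¹ * u .g * u .e) * ((u .d)⁻¹ * u .g * u .d) = z

namespace Twisted

variable {U : Type} [Group U] (T : Twisted U)

/-- The map on words. -/
def phi : FreeGroup ON.Gen →* U := FreeGroup.lift T.u

/-- The map on words to pairs. -/
def pairHom : FreeGroup ON.Gen →* U × ON := T.phi.prod (PresentedGroup.mk onRels)

/-- The covering group. -/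
abbrev Cover : Subgroup (U × ON) := T.pairHom.range

/-- The covering map. -/
def cover : T.Cover →* ON := (MonoidHom.snd _ _).comp T.Cover.subtype

/-- A word in the covering group. -/
def lift (w : FreeGroup ON.Gen) : T.Cover := ⟨T.pairHom w, w, rfl⟩

theorem cover_surjective : Function.Surjective T.cover := by
  intro x
  obtain ⟨w, rfl⟩ := PresentedGroup.mk_surjective _ x
  exact ⟨T.lift w, rfl⟩

theorem rel_cases : ∀ r ∈ onRels, T.phi r = 1 ∨ T.phi r = T.z := by
  rintro r (⟨x, hx, y, hy, rfl⟩ | hr)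
  · left
    rw [map_pow, map_mul, phi, FreeGroup.lift_apply_of, FreeGroup.lift_apply_of]
    exact T.cox x y (by rintro rfl; exact absurd hx (by decide)) (by rintro rfl; exact absurd hy (by decide))
  · simp only [ON.extra, Set.mem_setOf_eq, List.mem_cons, List.not_mem_nil, or_false] at hr
    rcases hr with rfl | rfl | rfl | rfl | rfl | rfl | rfl <;>
      simp only [ON.a, ON.b, ON.c, ON.d, ON.e, ON.f, ON.g, map_mul, map_inv, map_pow, phi, FreeGroup.lift_apply_of]
    exacts [Or.inl T.r1, Or.inl T.r2, Or.inl T.r3, Or.inl T.r4, Or.inr T.r5, Or.inr T.r6, Or.inr T.r7]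

theorem phi_mem_of_mk_eq_one {w : FreeGroup ON.Gen} (h : PresentedGroup.mk onRels w = 1) :
    T.phi w ∈ Subgroup.zpowers T.z := by
  have hn : (Subgroup.zpowers T.z).Normal := Subgroup.Normal.mk fun n hn q => by
    obtain ⟨m, rfl⟩ := Subgroup.mem_zpowers_iff.mp hn
    rw [← ((show Commute T.z q from T.central q).zpow_left m).eq, mul_inv_cancel_right]
    exact hn
  have hw : w ∈ Subgroup.normalClosure onRels := (QuotientGroup.eq_one_iff w).mp h
  refine Subgroup.normalClosure_le_normal (N := (Subgroup.zpowers T.z).comap T.phi) (fun r hr => ?_) hw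
  rcases T.rel_cases r hr with e | e
  · exact Subgroup.mem_comap.mpr (e ▸ one_mem _)
  · exact Subgroup.mem_comap.mpr (e ▸ Subgroup.mem_zpowers _)

theorem z_mem : ((T.z, 1) : U × ON) ∈ T.Cover := by
  refine ⟨(ON.b * ON.c * ON.d * ON.g) ^ 5, Prod.ext ?_ ?_⟩
  · simpa [pairHom, phi, ON.b, ON.c, ON.d, ON.g] using T.r5
  · exact PresentedGroup.one_of_mem (Or.inr (by simp [ON.extra]))

/-- The central element of the covering group. -/
def zee : T.Cover := ⟨(T.z, 1), T.z_mem⟩

theorem ker_eq : T.cover.ker = Subgroup.zpowers T.zee := by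
  refine le_antisymm (fun x hx => ?_) (Subgroup.zpowers_le.mpr rfl)
  obtain ⟨w, hw⟩ := x.2
  have h2 : x.1.2 = 1 := hx
  obtain ⟨m, hm⟩ := Subgroup.mem_zpowers_iff.mp (T.phi_mem_of_mk_eq_one (w := w) (by rw [← hw] at h2; exact h2))
  refine Subgroup.mem_zpowers_iff.mpr ⟨m, Subtype.ext (Prod.ext ?_ ?_)⟩
  · rw [← hw]; simpa [zee, pairHom] using hm
  · simpa [zee] using h2.symm

theorem ker_le_center : T.cover.ker ≤ Subgroup.center T.Cover := by
  rw [ker_eq, Subgroup.zpowers_le, Subgroup.mem_center_iff]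
  intro y
  exact Subtype.ext (Prod.ext (T.central y.1.1).symm (Commute.one_right y.1.2).eq)

theorem card_ker : Nat.card T.cover.ker = 3 := by
  have : Fact (Nat.Prime 3) := ⟨Nat.prime_three⟩
  rw [ker_eq, Nat.card_zpowers]
  refine orderOf_eq_prime (Subtype.ext (Prod.ext T.z3 (one_pow 3))) fun h => T.z1 ?_
  exact congrArg (fun v : T.Cover => v.1.1) h

theorem lift_eq {v w : FreeGroup ON.Gen} (h : T.phi v = T.phi w)
    (h' : PresentedGroup.mk onRels v = PresentedGroup.mk onRels w) : T.lift v = T.lift w :=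
  Subtype.ext (Prod.ext h h')

/-- The map on words into the abelian quotient of the covering group. -/
def chi : FreeGroup ON.Gen →* Abelianization T.Cover :=
  Abelianization.of.comp (T.pairHom.rangeRestrict)

theorem commutator_cover : commutator T.Cover = ⊤ := by
  rw [eq_top_iff]
  intro x _
  rw [← Abelianization.ker_of, MonoidHom.mem_ker]
  suffices hχ : T.chi = 1 by
    obtain ⟨w, hw⟩ := x.2
    have : x = T.pairHom.rangeRestrict w := Subtype.ext hw.symm
    rw [this]
    exact DFunLike.congr_fun hχ w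
  have eqv : ∀ v w, T.phi v = T.phi w → PresentedGroup.mk onRels v = PresentedGroup.mk onRels w → T.chi v = T.chi w :=
    fun v w h h' => congrArg Abelianization.of (T.lift_eq h h')
  have rel : ∀ w, T.phi w = 1 → w ∈ onRels → T.chi w = 1 := fun w h hw => by
    rw [eqv w 1 (h.trans (map_one _).symm) ((PresentedGroup.one_of_mem hw).trans (map_one _).symm), map_one]
  have cox : ∀ p q : ON.Gen, p ≠ .g → q ≠ .g → ∀ m, coxLabel ON.edges p q = m →
      (T.chi (FreeGroup.of p) * T.chi (FreeGroup.of q)) ^ m = 1 := by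
    intro p q hp hq m hm
    rw [← map_mul, ← map_pow]
    refine rel _ ?_ (Or.inl ⟨p, by cases p <;> first | decide | exact absurd rfl hp, q,
        by cases q <;> first | decide | exact absurd rfl hq, by rw [hm]⟩)
    rw [map_pow, map_mul, phi, FreeGroup.lift_apply_of, FreeGroup.lift_apply_of, ← hm]
    exact T.cox p q hp hq
  have sqr : ∀ p, p ≠ ON.Gen.g → T.chi (FreeGroup.of p) * T.chi (FreeGroup.of p) = 1 := fun p hp => by
    have := cox p p hp hp 1 (by cases p <;> first | rfl | exact absurd rfl hp)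
    rwa [pow_one] at this
  have tri : ∀ p q : ON.Gen, p ≠ .g → q ≠ .g → coxLabel ON.edges p q = 3 →
      T.chi (FreeGroup.of p) = T.chi (FreeGroup.of q) := by
    intro p q hp hq h
    have h3 := cox p q hp hq 3 h
    have h2 : (T.chi (FreeGroup.of p) * T.chi (FreeGroup.of q)) ^ 2 = 1 := by
      rw [mul_pow, pow_two, pow_two, sqr p hp, sqr q hq, one_mul]
    rw [pow_succ, h2, one_mul] at h3
    calc T.chi (FreeGroup.of p) = T.chi (FreeGroup.of p) * (T.chi (FreeGroup.of q) * T.chi (FreeGroup.of q)) := by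
          rw [sqr q hq, mul_one]
      _ = T.chi (FreeGroup.of q) := by rw [← mul_assoc, h3, one_mul]
  have hab : T.chi ON.a = T.chi ON.b := tri .a .b (by decide) (by decide) rfl
  have hbc : T.chi ON.b = T.chi ON.c := tri .b .c (by decide) (by decide) rfl
  have hde : T.chi ON.d = T.chi ON.e := tri .d .e (by decide) (by decide) rfl
  have hef : T.chi ON.e = T.chi ON.f := tri .e .f (by decide) (by decide) rfl
  have e1 : T.chi (ON.a * ON.f * (ON.g ^ 2)⁻¹) = 1 :=
    rel _ (by simpa [phi, ON.a, ON.f, ON.g] using T.r1) (Or.inr (by simp [ON.extra]))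
  have e2 : T.chi (ON.a * ON.f * ((ON.c * ON.d) ^ 4)⁻¹) = 1 :=
    rel _ (by simpa [phi, ON.a, ON.c, ON.d, ON.f] using T.r2) (Or.inr (by simp [ON.extra]))
  have e56 : T.chi ((ON.b * ON.c * ON.d * ON.g) ^ 5) =
      T.chi (ON.g * ON.b * (ON.c⁻¹ * ON.g * ON.c) * (ON.b⁻¹ * ON.g * ON.b) * (ON.c⁻¹ * ON.g * ON.c)) :=
    eqv _ _ (by simpa [phi, ON.b, ON.c, ON.d, ON.g] using T.r5.trans T.r6.symm)
      ((PresentedGroup.one_of_mem (Or.inr (by simp [ON.extra]))).trans
        (PresentedGroup.one_of_mem (Or.inr (by simp [ON.extra]))).symm)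
  have e6 : T.chi (ON.g * ON.b * (ON.c⁻¹ * ON.g * ON.c) * (ON.b⁻¹ * ON.g * ON.b) * (ON.c⁻¹ * ON.g * ON.c)) ^ 3 = 1 := by
    rw [← map_pow, eqv _ 1 ?_ ?_, map_one]
    · rw [map_pow, map_one, ← T.z3, ← T.r6]
      simp [phi, ON.b, ON.c, ON.g]
    · rw [map_pow, map_one, PresentedGroup.one_of_mem (Or.inr (by simp [ON.extra])), one_pow]
  simp only [map_mul, map_inv, map_pow] at e1 e2 e56 e6
  rw [← hef, ← hde] at e1 e2
  rw [← hbc, ← hab] at e56 e2 e6
  have sa : T.chi ON.a * T.chi ON.a = 1 := sqr .a (by decide)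
  have sd : T.chi ON.d * T.chi ON.d = 1 := sqr .d (by decide)
  obtain ⟨xa, ha⟩ : ∃ v, T.chi ON.a = v := ⟨_, rfl⟩
  obtain ⟨xd, hd⟩ : ∃ v, T.chi ON.d = v := ⟨_, rfl⟩
  obtain ⟨xg, hg⟩ : ∃ v, T.chi ON.g = v := ⟨_, rfl⟩
  rw [ha] at sa
  rw [hd] at sd
  rw [ha, hd] at e2
  rw [ha, hd, hg] at e1 e56
  rw [ha, hg] at e6
  have hda : xd = xa := by
    rw [show (xa * xd) ^ 4 = 1 by rw [mul_pow, pow_mul xa 2 2, pow_mul xd 2 2, pow_two xa, pow_two xd, sa, sd,
      one_pow, one_mul], inv_one, mul_one] at e2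
    calc xd = xa * xa * xd := by rw [sa, one_mul]
      _ = xa := by rw [mul_assoc, e2, mul_one]
  subst hda
  rw [sd, one_mul, inv_eq_one] at e1
  have hval : xg * xd * (xd⁻¹ * xg * xd) * (xd⁻¹ * xg * xd) * (xd⁻¹ * xg * xd) = (xg ^ 2) ^ 2 * xd := by
    rw [show xd⁻¹ * xg * xd = xg by rw [mul_right_comm, inv_mul_cancel, one_mul], pow_two, pow_two]
    ac_rfl
  rw [hval, e1, one_pow, one_mul] at e6 e56
  have hd1 : xd = 1 := by
    rw [pow_succ, pow_two, sd, one_mul] at e6
    exact e6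
  subst hd1
  have hxg : xg = 1 := by
    simp only [one_mul] at e56
    rw [pow_succ, pow_mul xg 2 2, e1, one_pow, one_mul] at e56
    exact e56
  refine FreeGroup.ext_hom _ _ fun p => ?_
  cases p
  · exact hg.trans hxg
  · exact ha
  · exact hab.symm.trans ha
  · exact hbc.symm.trans (hab.symm.trans ha)
  · exact hd
  · exact hde.symm.trans hd
  · exact hef.symm.trans (hde.symm.trans hd)

theorem exists_stem (T : Twisted U) [Finite U] [Finite ON] :
    ∃ (Γ : Type) (_ : Group Γ) (_ : Finite Γ) (σ : Γ →* ON), Cfsg.IsStemExtension σ ∧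
      Nonempty (σ.ker ≃* Multiplicative (ZMod 3)) := by
  refine ⟨T.Cover, inferInstance, inferInstance, T.cover, ⟨T.cover_surjective, T.ker_le_center, ?_⟩, ?_⟩
  · rw [T.commutator_cover]; exact le_top
  · have : Fact (Nat.Prime 3) := ⟨Nat.prime_three⟩
    exact ⟨mulEquivOfPrimeCardEq T.card_ker (by rw [Nat.card_congr Multiplicative.toAdd, Nat.card_zmod])⟩

end Twisted

end Cfsg.Agent.Lib.ON45
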