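import Cfsg.Agent.Lib.ON45.Stem

/-!
# Twisted generators from word values in a monoid
-/

set_option autoImplicit false

namespace Cfsg.Agent.Lib.ON45

open Cfsg.Spor

/-- The number of a generator. -/
def num : ON.Gen → ℕ
  | .a => 0 | .b => 1 | .c => 2 | .d => 3 | .e => 4 | .f => 5 | .g => 6

/-- The number of the inverse of a generator. -/
def numInv : ON.Gen → ℕ
  | .g => 7 | x => num x

variable {R : Type} [Monoid R]

/-- The word values needed to build twisted generators. -/
structure WordValues (m : ℕ → R) (z zi : R) : Prop where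
  zz : z * zi = 1
  central : ∀ v, z * v = v * z
  z3 : z ^ 3 = 1
  z1 : z ≠ 1
  invol : ∀ x < 6, ([x, x].map m).prod = 1
  inv_g : ([6, 7].map m).prod = 1 ∧ ([7, 6].map m).prod = 1
  cox : ∀ x y : ON.Gen, x ≠ .g → y ≠ .g →
    ((List.replicate (coxLabel ON.edges x y) [num x, num y]).flatten.map m).prod = 1
  r1 : ([0, 5, 7, 7].map m).prod = 1
  r2 : ([0, 5, 3, 2, 3, 2, 3, 2, 3, 2].map m).prod = 1
  r3 : ([2, 7, 3, 7, 3, 2, 3, 6, 3, 6].map m).prod = 1
  r4 : ([3, 7, 2, 7, 2, 3, 2, 6, 2, 6].map m).prod = 1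
  r5 : ([1, 2, 3, 6, 1, 2, 3, 6, 1, 2, 3, 6, 1, 2, 3, 6, 1, 2, 3, 6].map m).prod = z
  r6 : ([6, 1, 2, 6, 2, 1, 6, 1, 2, 6, 2].map m).prod = z
  r7 : ([6, 4, 3, 6, 3, 4, 6, 4, 3, 6, 3].map m).prod = z

theorem prod_flatten_pair (m : ℕ → R) (x y : ℕ) :
    ∀ k, ((List.replicate k [x, y]).flatten.map m).prod = (m x * m y) ^ k
  | 0 => by simp
  | k + 1 => by
    rw [pow_succ', List.replicate_succ, List.flatten_cons, List.map_append, List.prod_append,
      prod_flatten_pair m x y k]
    simp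

/-- Twisted generators among the units. -/
theorem exists_twisted {m : ℕ → R} {z zi : R} (h : WordValues m z zi) : Nonempty (Twisted Rˣ) := by
  have hz3 : zi * z = 1 := by
    have h2 : zi = z ^ 2 := by
      calc zi = z ^ 3 * zi := by rw [h.z3, one_mul]
        _ = z ^ 2 * (z * zi) := by rw [pow_succ, mul_assoc]
        _ = z ^ 2 := by rw [h.zz, mul_one]
    rw [h2, ← pow_succ, h.z3]
  have hinv : ∀ x : ON.Gen, m (num x) * m (numInv x) = 1 ∧ m (numInv x) * m (num x) = 1 := by
    intro x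
    have hp : ∀ p q, ([p, q].map m).prod = 1 → m p * m q = 1 := fun p q e => by simpa using e
    cases x <;> first
      | exact ⟨hp _ _ (h.invol _ (by decide)), hp _ _ (h.invol _ (by decide))⟩
      | exact ⟨hp _ _ h.inv_g.1, hp _ _ h.inv_g.2⟩
  let u : ON.Gen → Rˣ := fun x => ⟨m (num x), m (numInv x), (hinv x).1, (hinv x).2⟩
  refine ⟨{
    u := u
    z := ⟨z, zi, h.zz, hz3⟩
    central := fun v => Units.ext (h.central v.val)
    z3 := Units.ext h.z3
    z1 := fun e => h.z1 (congrArg Units.val e)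
    cox := fun x y hx hy => Units.ext ?_
    r1 := Units.ext ?_
    r2 := Units.ext ?_
    r3 := Units.ext ?_
    r4 := Units.ext ?_
    r5 := Units.ext ?_
    r6 := Units.ext ?_
    r7 := Units.ext ?_ }⟩
  · rw [Units.val_pow_eq_pow_val, Units.val_mul, Units.val_one, ← h.cox x y hx hy, prod_flatten_pair]
  · simpa [u, num, numInv, pow_succ, mul_assoc] using h.r1
  · simpa [u, num, numInv, pow_succ, mul_assoc] using h.r2
  · simpa [u, num, numInv, mul_assoc] using h.r3
  · simpa [u, num, numInv, mul_assoc] using h.r4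
  · simpa [u, num, numInv, pow_succ, mul_assoc] using h.r5
  · simpa [u, num, numInv, mul_assoc] using h.r6
  · simpa [u, num, numInv, mul_assoc] using h.r7

end Cfsg.Agent.Lib.ON45
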